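import Cfsg.Agent.Lib.Chev.GTwoThree.Table

set_option autoImplicit false
set_option linter.unusedSimpArgs false

/-!
Centralizers of the elements of orders 13 and 7.
-/

namespace CfsgLib.GTwoThree

open Matrix
open scoped Fin.NatCast

theorem eqs_of_presThirteen {M : MatSeven} (h : Pres M) : EqsThirteen M := by
  refine ⟨?_, ?_, ?_, ?_, ?_⟩
  · have := congrFun (congrFun (h 0) 1) 6
    simp [Matrix.mul_apply, Fin.sum_univ_seven, brk, Matrix.sum_apply] at this
    linear_combination this
  · have := congrFun (congrFun (h 3) 2) 3
    simp [Matrix.mul_apply, Fin.sum_univ_seven, brk, Matrix.sum_apply] at this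
    linear_combination this
  · have := congrFun (congrFun (h 6) 3) 4
    simp [Matrix.mul_apply, Fin.sum_univ_seven, brk, Matrix.sum_apply] at this
    linear_combination this
  · have := congrFun (congrFun (h 3) 0) 3
    simp [Matrix.mul_apply, Fin.sum_univ_seven, brk, Matrix.sum_apply] at this
    linear_combination this
  · have := congrFun (congrFun (h 2) 0) 5
    simp [Matrix.mul_apply, Fin.sum_univ_seven, brk, Matrix.sum_apply] at this
    linear_combination this

theorem commute_powThirteen {M : MatSeven} (h : Commute M eltThirteen) : ∀ l, Commute M (powThirteen l) := by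
  have key : ∀ n : ℕ, Commute M (powThirteen (n : Fin 13)) := by
    intro n
    induction n with
    | zero => simp [powThirteen_zero]
    | succ n ih => rw [Nat.cast_succ, powThirteen_succ]; exact h.mul_right ih
  intro l
  simpa using key l.val

theorem eltThirteen_pow : ∀ n : ℕ, eltThirteen ^ n = powThirteen (n : Fin 13)
  | 0 => by simp [powThirteen_zero]
  | n + 1 => by rw [pow_succ', eltThirteen_pow n, Nat.cast_succ, powThirteen_succ]

theorem eltThirteen_order : eltThirteen ^ 13 = 1 := by
  rw [eltThirteen_pow, ← powThirteen_zero]; rfl

/-- The centralizer of the element of order 13 consists of its powers. -/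
theorem pow_eq_oneThirteen {M : MatSeven} (hP : Pres M) (hC : Commute M eltThirteen) (h0 : M ≠ 0) :
    M ^ 13 = 1 := by
  have hM : M = candThirteen (fun k => M k 0) := by
    calc M = M * ((Matrix.of fun (i j : Fin 7) => powThirteen (Fin.castLE (by decide) j) i 0) * kInvThirteen) := by
          rw [kryThirteen, Matrix.mul_one]
      _ = (Matrix.of fun (i j : Fin 7) => (powThirteen (Fin.castLE (by decide) j) * M) i 0) * kInvThirteen := by
          rw [← Matrix.mul_assoc]
          congr 1
          ext i j
          rw [Matrix.of_apply, ← (commute_powThirteen hC _).eq]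
          rfl
      _ = candThirteen (fun k => M k 0) := by
          ext i j
          simp only [candThirteen, basisThirteen_eq, Matrix.of_apply, Matrix.mul_apply, Finset.sum_mul,
            Finset.mul_sum]
          rw [Finset.sum_comm]
          exact Finset.sum_congr rfl fun x _ => Finset.sum_congr rfl fun y _ => by ring
  have hw : (fun k => M k 0) = ![M 0 0, M 1 0, M 2 0, M 3 0, M 4 0, M 5 0, M 6 0] := by
    funext k; fin_cases k <;> rfl
  rw [hw] at hM
  have he := eqs_of_presThirteen hP
  rw [hM] at he
  rcases goodThirteen_spec _ (mem_goodThirteen _ _ _ _ _ _ _ he) with h | ⟨m, h⟩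
  · exact absurd (hM.trans h) h0
  · have hm : powThirteen m = eltThirteen ^ m.val := by rw [eltThirteen_pow, Fin.cast_val_eq_self]
    rw [hM.trans h, hm, ← pow_mul, mul_comm, pow_mul, eltThirteen_order, one_pow]

theorem eqs_of_presSeven {M : MatSeven} (h : Pres M) : EqsSeven M := by
  refine ⟨?_, ?_, ?_, ?_, ?_, ?_⟩
  · have := congrFun (congrFun (h 4) 1) 5
    simp [Matrix.mul_apply, Fin.sum_univ_seven, brk, Matrix.sum_apply] at this
    linear_combination this
  · have := congrFun (congrFun (h 6) 0) 1
    simp [Matrix.mul_apply, Fin.sum_univ_seven, brk, Matrix.sum_apply] at this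
    linear_combination this
  · have := congrFun (congrFun (h 2) 2) 5
    simp [Matrix.mul_apply, Fin.sum_univ_seven, brk, Matrix.sum_apply] at this
    linear_combination this
  · have := congrFun (congrFun (h 6) 3) 6
    simp [Matrix.mul_apply, Fin.sum_univ_seven, brk, Matrix.sum_apply] at this
    linear_combination this
  · have := congrFun (congrFun (h 6) 0) 2
    simp [Matrix.mul_apply, Fin.sum_univ_seven, brk, Matrix.sum_apply] at this
    linear_combination this
  · have := congrFun (congrFun (h 1) 0) 1
    simp [Matrix.mul_apply, Fin.sum_univ_seven, brk, Matrix.sum_apply] at this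
    linear_combination this

theorem commute_powSeven {M : MatSeven} (h : Commute M eltSeven) : ∀ l, Commute M (powSeven l) := by
  have key : ∀ n : ℕ, Commute M (powSeven (n : Fin 7)) := by
    intro n
    induction n with
    | zero => simp [powSeven_zero]
    | succ n ih => rw [Nat.cast_succ, powSeven_succ]; exact h.mul_right ih
  intro l
  simpa using key l.val

theorem eltSeven_pow : ∀ n : ℕ, eltSeven ^ n = powSeven (n : Fin 7)
  | 0 => by simp [powSeven_zero]
  | n + 1 => by rw [pow_succ', eltSeven_pow n, Nat.cast_succ, powSeven_succ]

theorem eltSeven_order : eltSeven ^ 7 = 1 := by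
  rw [eltSeven_pow, ← powSeven_zero]; rfl

/-- The centralizer of the element of order 7 consists of its powers. -/
theorem pow_eq_oneSeven {M : MatSeven} (hP : Pres M) (hC : Commute M eltSeven) (h0 : M ≠ 0) :
    M ^ 7 = 1 := by
  have hM : M = candSeven (fun k => M k 0) := by
    calc M = M * ((Matrix.of fun (i j : Fin 7) => powSeven (Fin.castLE (by decide) j) i 0) * kInvSeven) := by
          rw [krySeven, Matrix.mul_one]
      _ = (Matrix.of fun (i j : Fin 7) => (powSeven (Fin.castLE (by decide) j) * M) i 0) * kInvSeven := by
          rw [← Matrix.mul_assoc]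
          congr 1
          ext i j
          rw [Matrix.of_apply, ← (commute_powSeven hC _).eq]
          rfl
      _ = candSeven (fun k => M k 0) := by
          ext i j
          simp only [candSeven, basisSeven_eq, Matrix.of_apply, Matrix.mul_apply, Finset.sum_mul,
            Finset.mul_sum]
          rw [Finset.sum_comm]
          exact Finset.sum_congr rfl fun x _ => Finset.sum_congr rfl fun y _ => by ring
  have hw : (fun k => M k 0) = ![M 0 0, M 1 0, M 2 0, M 3 0, M 4 0, M 5 0, M 6 0] := by
    funext k; fin_cases k <;> rfl
  rw [hw] at hM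
  have he := eqs_of_presSeven hP
  rw [hM] at he
  rcases goodSeven_spec _ (mem_goodSeven _ _ _ _ _ _ _ he) with h | ⟨m, h⟩
  · exact absurd (hM.trans h) h0
  · have hm : powSeven m = eltSeven ^ m.val := by rw [eltSeven_pow, Fin.cast_val_eq_self]
    rw [hM.trans h, hm, ← pow_mul, mul_comm, pow_mul, eltSeven_order, one_pow]

end CfsgLib.GTwoThree
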