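import Cfsg.Agent.Lib.Chev.StMultiplier
import Cfsg.Agent.Lib.Chev.StSmallTypes

/-!
An upper bound for the Schur multiplier of `G₂(3)`: modulo the commutator of one pair of orthogonal
root subgroups, every perfect central extension satisfies Steinberg's relations.
-/

set_option autoImplicit false
set_option maxRecDepth 100000

namespace CfsgLib.GTwoThree

open Cfsg.Lie CfsgLib.Chev Matrix
open scoped commutatorElement

/-- Over three elements the torus element `-1` separates the roots of a certificate. -/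
noncomputable def parSep (v : List ℤ) (r s : ℕ) : Bool :=
  (decide (tabG2.cochar v r % 2 = 0) && decide (tabG2.cochar v s % 2 ≠ 0)) ||
    (decide (tabG2.cochar v s % 2 = 0) && decide (tabG2.cochar v r % 2 ≠ 0))

/-- Each pair but the two orthogonal ones is separated. -/
theorem pairsStG2_sep : (pairsStG2.all fun e =>
    decide (e.r = 9 ∧ e.s = 5 ∨ e.r = 11 ∧ e.s = 4) ||
      [[1, 0], [0, 1], [1, 1]].any fun v => parSep v e.r e.s) = true := by
  decide +kernel

/-- Every root is moved by the torus element `-1` at some node. -/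
theorem move_three : ((List.range 12).all fun r =>
    [[1, 0], [0, 1]].any fun v => decide (tabG2.cochar v r % 2 ≠ 0)) = true := by
  decide +kernel

/-- The Weyl path from the pair `(9, 5)` to the pair `(4, 11)`. -/
theorem path_spec : tabG2.refl 1 9 = 9 ∧ tabG2.refl 1 5 = 6 ∧ tabG2.refl 0 9 = 8 ∧
    tabG2.refl 0 6 = 10 ∧ tabG2.refl 1 8 = 7 ∧ tabG2.refl 1 10 = 11 ∧ tabG2.refl 0 7 = 4 ∧
    tabG2.refl 0 11 = 11 := by
  decide +kernel

theorem terms_nil : tabG2.commTerms 9 5 = [] ∧ tabG2.commTerms 11 4 = [] ∧ tabG2.l = 2 ∧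
    tabG2.n = 12 ∧ tabG2.neg 9 = 2 := by
  decide +kernel

universe u v

variable {K : Type u} [Field K] [Fintype K]

section Three

variable (hF : Fintype.card K = 3)
include hF

omit [Fintype K] hF in
lemma commute_nine_five : ∀ t u : K, Commute (X chevG2 9 t) (X chevG2 5 u) :=
  Ext.commute_of_terms_nil certG2 (by rw [terms_nil.2.2.2.1]; norm_num)
    (by rw [terms_nil.2.2.2.1]; norm_num) (by norm_num) (by rw [terms_nil.2.2.2.2]; norm_num)
    terms_nil.1

/-- The unit `-1` at odd and even exponents. -/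
lemma neg_one_chi (v : List ℤ) (r : ℕ) :
    (tabG2.cochar v r % 2 = 0 → chi tabG2 (powParam tabG2 (-1 : Kˣ) v) r = 1) ∧
      (tabG2.cochar v r % 2 ≠ 0 → chi tabG2 (powParam tabG2 (-1 : Kˣ) v) r ≠ 1) := by
  have hne : (-1 : K) ≠ 1 := by
    have : CharP K 3 := charP_of_card Nat.prime_three (k := 1) (by rw [hF, pow_one])
    intro e
    have h2 : ((2 : ℕ) : K) = 0 := by push_cast; linear_combination -e
    rw [CharP.cast_eq_zero_iff K 3] at h2
    norm_num at h2
  rw [chi_powParam, Units.val_neg, Units.val_one]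
  refine ⟨fun h0 => (Int.even_iff.2 h0).neg_one_zpow, fun h1 => ?_⟩
  rw [(Int.odd_iff.2 (by omega)).neg_one_zpow]
  exact hne

/-- An extension in which one orthogonal pair commutes satisfies the relations. -/
theorem rel_of_orth {E : Type v} [Group E] (Y : Ext chevG2 K E) (h95 : Y.Z 9 5) :
    ∃ L : Rel chevG2 tabG2 K E, L.π = Y.θ := by
  have : CharP K 3 := charP_of_card Nat.prime_three (k := 1) (by rw [hF, pow_one])
  have hprime := natCast_surjective_of_card (F := K) hF
  obtain ⟨-, -, hl, hn, hneg⟩ := terms_nil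
  have h114 : Y.Z 11 4 := by
    obtain ⟨p1, p2, p3, p4, p5, p6, p7, p8⟩ := path_spec
    have h0 : (0 : ℕ) < tabG2.l := by rw [hl]; norm_num
    have h1 : (1 : ℕ) < tabG2.l := by rw [hl]; norm_num
    have lt : ∀ k, k < 12 → k < tabG2.n := fun k hk => by rw [hn]; exact hk
    have c1 := commute_nine_five (K := K)
    have z1 := Y.Z_refl certG2 h1 (lt 9 (by norm_num)) (lt 5 (by norm_num)) c1 h95
    have c2 := Ext.commute_refl certG2 h1 (lt 9 (by norm_num)) (lt 5 (by norm_num)) c1
    rw [p1, p2] at z1 c2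
    have z2 := Y.Z_refl certG2 h0 (lt 9 (by norm_num)) (lt 6 (by norm_num)) c2 z1
    have c3 := Ext.commute_refl certG2 h0 (lt 9 (by norm_num)) (lt 6 (by norm_num)) c2
    rw [p3, p4] at z2 c3
    have z3 := Y.Z_refl certG2 h1 (lt 8 (by norm_num)) (lt 10 (by norm_num)) c3 z2
    have c4 := Ext.commute_refl certG2 h1 (lt 8 (by norm_num)) (lt 10 (by norm_num)) c3
    rw [p5, p6] at z3 c4
    have z4 := Y.Z_refl certG2 h0 (lt 7 (by norm_num)) (lt 11 (by norm_num)) c4 z3
    rw [p7, p8] at z4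
    exact Y.Z_symm z4
  have hL := pairsStG2_ok.1
  refine Y.rel_of_list certG2 hL (fun e he => ?_) fun _ =>
    Y.exists_canon_of_torus certG2 (fun r hr => ?_)
      fun r hr => Y.Z_self_of_prime certG2 hr hprime
  · simp only [Tab.chkList, Bool.and_eq_true, List.all_eq_true, decide_eq_true_eq] at hL
    obtain ⟨⟨b1, b2, b3, b4⟩, hpair⟩ := hL.2 e he
    have hs := List.all_eq_true.1 pairsStG2_sep e he
    simp only [Bool.or_eq_true, decide_eq_true_eq, List.any_eq_true] at hs
    rcases hs with (⟨hr, hs⟩ | ⟨hr, hs⟩) | ⟨v, -, hv⟩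
    · rw [hr, hs]
      exact ⟨fun _ => h95, fun hT => absurd terms_nil.1 hT⟩
    · rw [hr, hs]
      exact ⟨fun _ => h114, fun hT => absurd terms_nil.2.1 hT⟩
    · simp only [parSep, Bool.or_eq_true, Bool.and_eq_true, decide_eq_true_eq] at hv
      have hw : chi tabG2 (powParam tabG2 (-1 : Kˣ) v) e.r ≠ 1 ∧
            chi tabG2 (powParam tabG2 (-1 : Kˣ) v) e.s = 1 ∨
          chi tabG2 (powParam tabG2 (-1 : Kˣ) v) e.r = 1 ∧
            chi tabG2 (powParam tabG2 (-1 : Kˣ) v) e.s ≠ 1 := by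
        rcases hv with ⟨a, b⟩ | ⟨a, b⟩
        · exact Or.inr ⟨(neg_one_chi hF v e.r).1 a, (neg_one_chi hF v e.s).2 b⟩
        · exact Or.inl ⟨(neg_one_chi hF v e.r).2 b, (neg_one_chi hF v e.s).1 a⟩
      refine ⟨fun hc => Y.Z_of_torus certG2 b1 b2 hc _ hw, fun hT C => ?_⟩
      simp only [Tab.chkPair, Bool.or_eq_true, Bool.and_eq_true, decide_eq_true_eq] at hpair
      obtain ⟨ha, hx⟩ := hpair.resolve_left hT
      exact C.good_of_kill certG2 b1 b2 b3 b4 ha hx (Y.kill_of_torus _ hw)
  · have hm := List.all_eq_true.1 move_three r (List.mem_range.2 (hn ▸ hr))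
    simp only [List.any_eq_true, decide_eq_true_eq] at hm
    obtain ⟨v, -, hv⟩ := hm
    exact ⟨_, (neg_one_chi hF v r).2 hv⟩

omit hF in
/-- The cover of `G₂(3)` is the group itself. -/
theorem ker_stTheta_three :
    (certG2.stTheta (K := K) (R := chevG2.steinbergRelsAB K) le_rfl
      (steinbergRelsAB_subset chevG2 K)).ker = ⊥ := by
  have hnb : Rel.Nbr tabG2 := by unfold Rel.Nbr; decide +kernel
  rw [certG2.ker_stTheta, Rel.ker_eq_center _ certG2 hnb]
  exact (certG2.relOf le_rfl (steinbergRelsAB_subset _ K)).center_eq_bot certG2 hnb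
    ((certG2.relOf le_rfl (steinbergRelsAB_subset _ K)).mult_of_finite certG2 hnb)
    (U := matOf _ snfUG2) (Ui := matOf _ snfUiG2) (V := matOf _ snfVG2) (Vi := matOf _ snfViG2)
    (by decide +kernel) (by decide +kernel)

/-- `G₂(3)` is perfect. -/
theorem commutator_group_three : commutator ↥(chevG2.group K) = ⊤ := by
  refine certG2.commutator_group_top (by unfold Rel.Nbr; decide +kernel) ?_
  refine rel_perfect (by simp) (fun _ => ⟨-1, by simp, ?_⟩) le_rfl (steinbergRelsAB_subset _ K)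
  have := (neg_one_chi hF [0, 1] (tabG2.simple 0)).2 (by decide +kernel)
  intro e
  apply this
  rw [chi_powParam, Units.val_neg, Units.val_one, e, _root_.one_zpow]

/-- The kernel of a stem extension is generated by an element of order dividing three. -/
theorem ker_stem_three {Γ : Type v} [Group Γ] (σ : Γ →* ↥(chevG2.group K))
    (hσ : Cfsg.IsStemExtension σ) :
    ∃ z : σ.ker, z ^ 3 = 1 ∧ ∀ w : σ.ker, w ∈ Subgroup.zpowers z := by
  have : CharP K 3 := charP_of_card Nat.prime_three (k := 1) (by rw [hF, pow_one])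
  have hΓ := commutator_eq_top_of_stem hσ (commutator_group_three hF)
  let Y : Ext chevG2 K Γ :=
    { θ := (chevG2.group K).subtype.comp σ
      central := fun z hz => hσ.2.1 (MonoidHom.mem_ker.2 (Subtype.ext hz))
      range_eq := by
        rw [MonoidHom.range_comp, MonoidHom.range_eq_top.2 hσ.1, ← MonoidHom.range_eq_map,
          Subgroup.range_subtype]
      perfect := hΓ }
  have h9 : (9 : ℕ) < tabG2.n := by rw [terms_nil.2.2.2.1]; norm_num
  have h5 : (5 : ℕ) < tabG2.n := by rw [terms_nil.2.2.2.1]; norm_num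
  have hc := commute_nine_five (K := K)
  have hl := Y.br_X_add_left certG2 h9 h5 hc
  have hr := Y.br_X_add_right certG2 h9 h5 hc
  set z₀ : Γ := Y.br (X chevG2 9 1) (X chevG2 5 1) with hz₀
  have hzθ : Y.θ z₀ = 1 :=
    Y.θ_br_eq_one (certG2.X_mem_group h9 _) (certG2.X_mem_group h5 _) (hc _ _)
  have hpow : ∀ t u : K, ∃ k : ℕ, Y.br (X chevG2 9 t) (X chevG2 5 u) = z₀ ^ k := by
    intro t u
    obtain ⟨m, rfl⟩ := natCast_surjective_of_card (F := K) hF t
    obtain ⟨k, rfl⟩ := natCast_surjective_of_card (F := K) hF u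
    have h1 := kill_nsmul (f := fun t u => Y.br (X chevG2 9 t) (X chevG2 5 u)) hl 1 (k : K) m
    have h2 := kill_nsmul (f := fun u t => Y.br (X chevG2 9 t) (X chevG2 5 u))
      (fun u u' t => hr t u u') 1 1 k
    simp only [mul_one] at h1 h2
    exact ⟨k * m, by rw [h1, h2, ← pow_mul]⟩
  have hz3 : z₀ ^ 3 = 1 := by
    have h0 := hl 0 0 1
    rw [add_zero, left_eq_mul] at h0
    have h1 := kill_nsmul (f := fun t u => Y.br (X chevG2 9 t) (X chevG2 5 u)) hl 1 1 3
    rw [CharP.cast_eq_zero, zero_mul, h0] at h1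
    exact h1.symm
  set N : Subgroup Γ := Subgroup.zpowers z₀ with hN
  have hNk : N ≤ Y.θ.ker := by rw [hN, Subgroup.zpowers_le]; exact hzθ
  have : N.Normal := ⟨fun a ha g => by
    rw [Subgroup.mem_center_iff.1 (Y.central (hNk ha)) g, mul_inv_cancel_right]; exact ha⟩
  let θ' : Γ ⧸ N →* GL chevG2.Idx K := QuotientGroup.lift N Y.θ hNk
  let Y' : Ext chevG2 K (Γ ⧸ N) :=
    { θ := θ'
      central := by
        intro z
        refine QuotientGroup.induction_on z fun a ha => Subgroup.mem_center_iff.2 fun y => ?_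
        refine QuotientGroup.induction_on y fun b => ?_
        exact congrArg (QuotientGroup.mk' N) (Subgroup.mem_center_iff.1 (Y.central ha) b)
      range_eq := by
        rw [← Y.range_eq]
        refine le_antisymm ?_ fun g ⟨a, ha⟩ => ⟨(a : Γ ⧸ N), ha⟩
        rintro _ ⟨z, rfl⟩
        exact QuotientGroup.induction_on z fun a => ⟨a, rfl⟩
      perfect := by
        rw [← Subgroup.map_top_of_surjective _ (QuotientGroup.mk'_surjective N), ← hΓ,
          commutator_def, commutator_def, Subgroup.map_commutator,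
          Subgroup.map_top_of_surjective _ (QuotientGroup.mk'_surjective N)] }
  have h95 : Y'.Z 9 5 := by
    intro t u
    rw [Y'.br_eq (a := QuotientGroup.mk' N (Y.lft (X chevG2 9 t)))
      (b := QuotientGroup.mk' N (Y.lft (X chevG2 5 u)))
      (Y.θ_lft (certG2.X_mem_group h9 _)) (Y.θ_lft (certG2.X_mem_group h5 _)),
      ← map_commutatorElement]
    obtain ⟨k, hk⟩ := hpow t u
    refine (QuotientGroup.eq_one_iff _).2 ?_
    show Y.br (X chevG2 9 t) (X chevG2 5 u) ∈ N
    rw [hk]
    exact Subgroup.npow_mem_zpowers z₀ k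
  obtain ⟨L, hL⟩ := rel_of_orth hF Y' h95
  obtain ⟨ρ, hρ⟩ := L.exists_hom certG2
  set L₀ := certG2.relOf (R := chevG2.steinbergRelsAB K) le_rfl (steinbergRelsAB_subset chevG2 K)
  have hρ' : ∀ y, Y'.θ (ρ y) = L₀.π y := fun y => by rw [← hL]; exact hρ y
  have key : ∀ e, ∃ a ∈ ρ.range, Y'.θ e = Y'.θ a := fun e => by
    obtain ⟨y, hy⟩ := certG2.stTheta_surjective le_rfl (steinbergRelsAB_subset chevG2 K)
      ⟨_, Y'.θ_mem e⟩
    exact ⟨ρ y, ⟨y, rfl⟩, ((congrArg Subtype.val hy).symm.trans (hρ' y).symm)⟩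
  have htop : ρ.range = ⊤ := by
    rw [eq_top_iff, ← Y'.perfect, commutator_def, Subgroup.commutator_le]
    intro p _ q _
    obtain ⟨a, ha, ea⟩ := key p
    obtain ⟨b, hb, eb⟩ := key q
    rw [Y'.comm_congr ea eb, commutatorElement_def]
    exact mul_mem (mul_mem (mul_mem ha hb) (inv_mem ha)) (inv_mem hb)
  have hker : ∀ w : Γ, σ w = 1 → w ∈ N := by
    intro w hw
    obtain ⟨y, hy⟩ := MonoidHom.range_eq_top.1 htop (w : Γ ⧸ N)
    have h1 : L₀.π y = 1 := by
      rw [← hρ', hy]
      exact congrArg Subtype.val hw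
    have h2 : y = 1 := by
      have : y ∈ (certG2.stTheta (K := K) (R := chevG2.steinbergRelsAB K) le_rfl
          (steinbergRelsAB_subset chevG2 K)).ker := by rw [certG2.ker_stTheta]; exact h1
      rwa [ker_stTheta_three (K := K), Subgroup.mem_bot] at this
    rw [h2, map_one] at hy
    exact (QuotientGroup.eq_one_iff w).1 hy.symm
  refine ⟨⟨z₀, MonoidHom.mem_ker.2 (Subtype.ext hzθ)⟩, Subtype.ext hz3, fun w => ?_⟩
  obtain ⟨k, hk⟩ := Subgroup.mem_zpowers_iff.1 (hker w.1 w.2)
  exact Subgroup.mem_zpowers_iff.2 ⟨k, Subtype.ext hk⟩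

end Three

end CfsgLib.GTwoThree
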