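import Cfsg.Agent.Lib.Chev.GTwoThree.CoverCheck
import Cfsg.Agent.Lib.Chev.GTwoThree.MultBound
import Mathlib.GroupTheory.SpecificGroups.Cyclic

/-!
The triple cover of `G₂(3)` built from the monomial permutations of 1053 states.
-/

set_option autoImplicit false
set_option maxRecDepth 100000

namespace CfsgLib.GTwoThree

open Cfsg.Lie CfsgLib.Chev
open scoped commutatorElement

lemma permChk_spec {r : ℕ} (hr : r < 12) {s : ℕ} (hs : s < 1053) :
    ((cStep (coverRow r 1) s < 1053 ∧
        cStep (coverRow r 1) (cShift 1 s) = cShift 1 (cStep (coverRow r 1) s)) ∧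
      (cStep (coverRow r 2) s < 1053 ∧
        cStep (coverRow r 2) (cShift 1 s) = cShift 1 (cStep (coverRow r 2) s))) ∧
    cStep (coverRow r 1) (cStep (coverRow r 1) s) = cStep (coverRow r 2) s ∧
    cStep (coverRow r 1) (cStep (coverRow r 2) s) = s ∧
    cStep (coverRow r 2) (cStep (coverRow r 1) s) = s := by
  have h := permChk_all hr
  simp only [permChk, List.all_eq_true, List.mem_range, Bool.and_eq_true] at h
  obtain ⟨⟨⟨h1, h2⟩, h3⟩, h4⟩ := h s hs
  have a1 := h1 1 (by simp)
  have a2 := h1 2 (by simp)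
  simp only [Nat.beq_eq, Nat.blt_eq] at a1 a2 h2 h3 h4
  exact ⟨⟨a1, a2⟩, h2, h3, h4⟩

/-- The action of `x_r(t)` on the states. -/
noncomputable def cGen (r : ℕ) (t : ZMod 3) (s : ℕ) : ℕ := cAct [(r, t.val)] s

lemma cGen_zero (r s : ℕ) : cGen r 0 s = s := rfl
lemma cGen_one (r s : ℕ) : cGen r 1 s = cStep (coverRow r 1) s := rfl
lemma cGen_two (r s : ℕ) : cGen r 2 s = cStep (coverRow r 2) s := rfl

lemma zmod_three_cases : ∀ t : ZMod 3, t = 0 ∨ t = 1 ∨ t = 2 := by decide

lemma cGen_spec {r : ℕ} (hr : r < 12) (t : ZMod 3) {s : ℕ} (hs : s < 1053) :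
    cGen r t s < 1053 ∧ cGen r t (cShift 1 s) = cShift 1 (cGen r t s) := by
  obtain ⟨⟨a1, a2⟩, -⟩ := permChk_spec hr hs
  rcases zmod_three_cases t with rfl | rfl | rfl
  · exact ⟨hs, rfl⟩
  · exact a1
  · exact a2

lemma cGen_add {r : ℕ} (hr : r < 12) (t u : ZMod 3) {s : ℕ} (hs : s < 1053) :
    cGen r t (cGen r u s) = cGen r (t + u) s := by
  obtain ⟨⟨a1, -⟩, e11, e12, e21⟩ := permChk_spec hr hs
  have e22 : cStep (coverRow r 2) (cStep (coverRow r 2) s) = cStep (coverRow r 1) s := by
    rw [← e11]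
    exact (permChk_spec hr a1.1).2.2.2
  have h21 : (2 : ZMod 3) + 1 = 0 := by decide
  have h12 : (1 : ZMod 3) + 2 = 0 := by decide
  have h22 : (2 : ZMod 3) + 2 = 1 := by decide
  have h11 : (1 : ZMod 3) + 1 = 2 := by decide
  rcases zmod_three_cases t with rfl | rfl | rfl <;>
    rcases zmod_three_cases u with rfl | rfl | rfl <;>
    simp only [zero_add, add_zero, h21, h12, h22, h11, cGen_zero, cGen_one, cGen_two]
  exacts [e11, e12, e21, e22]

/-- The states. -/
abbrev St : Type := Fin 1053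

/-- The permutation attached to `x_r(t)`. -/
noncomputable def genPerm (r : Fin 12) (t : ZMod 3) : Equiv.Perm St where
  toFun s := ⟨cGen r t s, (cGen_spec r.isLt t s.isLt).1⟩
  invFun s := ⟨cGen r (-t) s, (cGen_spec r.isLt (-t) s.isLt).1⟩
  left_inv s := Fin.ext (by
    show cGen r (-t) (cGen r t s) = s
    rw [cGen_add r.isLt _ _ s.isLt, neg_add_cancel, cGen_zero])
  right_inv s := Fin.ext (by
    show cGen r t (cGen r (-t) s) = s
    rw [cGen_add r.isLt _ _ s.isLt, add_neg_cancel, cGen_zero])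

lemma cShift_lt (d : ℕ) {s : ℕ} (hs : s < 1053) : cShift d s < 1053 := by
  simp only [cShift]; omega

/-- The generator of the fibre shifts. -/
noncomputable def shiftPerm : Equiv.Perm St where
  toFun s := ⟨cShift 1 s, cShift_lt 1 s.isLt⟩
  invFun s := ⟨cShift 2 s, cShift_lt 2 s.isLt⟩
  left_inv s := Fin.ext (by simp only [cShift]; omega)
  right_inv s := Fin.ext (by simp only [cShift]; omega)

lemma shiftPerm_pow (d : ℕ) (s : St) : (((shiftPerm ^ d) s : St) : ℕ) = cShift d s := by
  induction d with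
  | zero => simp only [pow_zero, Equiv.Perm.coe_one, id_eq, cShift]; omega
  | succ d ih =>
    rw [pow_succ', Equiv.Perm.mul_apply]
    show cShift 1 ((shiftPerm ^ d) s : St) = _
    rw [ih]
    simp only [cShift]; omega

/-- The group of permutations commuting with the shift. -/
abbrev Mono : Subgroup (Equiv.Perm St) := Subgroup.centralizer {shiftPerm}

lemma genPerm_mem (r : Fin 12) (t : ZMod 3) : genPerm r t ∈ Mono := by
  rw [Subgroup.mem_centralizer_singleton_iff]
  exact Equiv.ext fun s => Fin.ext (cGen_spec r.isLt t s.isLt).2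

/-- The lifts of the root elements. -/
noncomputable def monoGen (r : ℕ) (t : ZMod 3) : Mono :=
  if hr : r < 12 then ⟨genPerm ⟨r, hr⟩ t, genPerm_mem _ t⟩ else 1

lemma monoGen_val {r : ℕ} (hr : r < 12) (t : ZMod 3) (s : St) :
    ((((monoGen r t : Mono) : Equiv.Perm St) s : St) : ℕ) = cGen r t s := by
  rw [monoGen, dif_pos hr]; rfl

/-- The shift, as an element of the group. -/
noncomputable def monoZ : Mono :=
  ⟨shiftPerm, Subgroup.mem_centralizer_singleton_iff.2 rfl⟩

lemma monoZ_center : monoZ ∈ Subgroup.center Mono := by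
  refine Subgroup.mem_center_iff.2 fun g => Subtype.ext ?_
  exact Subgroup.mem_centralizer_singleton_iff.1 g.2

lemma cAct_word : ∀ w : List (ℕ × ZMod 3), (∀ g ∈ w, g.1 < 12) → ∀ s : St,
    cAct (cWord w) s = ((((w.map fun g => monoGen g.1 g.2).prod : Mono) : Equiv.Perm St) s : St) := by
  intro w
  induction w with
  | nil => intro _ s; rfl
  | cons g w ih =>
    intro hw s
    rw [List.map_cons, List.prod_cons, Subgroup.coe_mul, Equiv.Perm.mul_apply,
      monoGen_val (hw g List.mem_cons_self), ← ih (fun a ha => hw a (List.mem_cons_of_mem _ ha))]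
    rfl

/-- A check on the base states gives an identity of permutations. -/
lemma eq_of_cEq {d : ℕ} {l r : List (ℕ × ZMod 3)} (hl : ∀ g ∈ l, g.1 < 12)
    (hr : ∀ g ∈ r, g.1 < 12) (h : cEq d (cWord l) (cWord r) = true) :
    (l.map fun g => monoGen g.1 g.2).prod = monoZ ^ d * (r.map fun g => monoGen g.1 g.2).prod := by
  set A : Mono := (l.map fun g => monoGen g.1 g.2).prod with hA
  set B : Mono := monoZ ^ d * (r.map fun g => monoGen g.1 g.2).prod with hB
  have hbase : ∀ i : Fin 351, A.1 ⟨3 * i.1, by omega⟩ = B.1 ⟨3 * i.1, by omega⟩ := by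
    intro i
    refine Fin.ext ?_
    simp only [cEq, List.all_eq_true, List.mem_range, Nat.beq_eq] at h
    have := h i.1 i.2
    rw [cAct_word l hl ⟨3 * i.1, by omega⟩, cAct_word r hr ⟨3 * i.1, by omega⟩] at this
    rw [this, hB, Subgroup.coe_mul, Equiv.Perm.mul_apply, SubmonoidClass.coe_pow]
    exact (shiftPerm_pow d _).symm
  refine Subtype.ext (Equiv.ext fun s => ?_)
  have hs : s = (shiftPerm ^ (s.1 % 3)) ⟨3 * (s.1 / 3), by omega⟩ := by
    refine Fin.ext ?_
    rw [shiftPerm_pow]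
    simp only [cShift]; omega
  have hcomm : ∀ (g : Mono) (x : St) (k : ℕ),
      g.1 ((shiftPerm ^ k) x) = (shiftPerm ^ k) (g.1 x) := fun g x k => by
    have hc : Commute g.1 shiftPerm := Subgroup.mem_centralizer_singleton_iff.1 g.2
    rw [← Equiv.Perm.mul_apply, (hc.pow_right k).eq, Equiv.Perm.mul_apply]
  rw [hs, hcomm A, hcomm B, hbase ⟨s.1 / 3, by omega⟩]

/-- The shifts. -/
noncomputable abbrev shiftGroup : Subgroup Mono := Subgroup.zpowers monoZ

instance : (shiftGroup).Normal := ⟨fun a ha g => by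
  have hc : a ∈ Subgroup.center Mono := (Subgroup.zpowers_le.2 monoZ_center) ha
  rw [Subgroup.mem_center_iff.1 hc g, mul_inv_cancel_right]
  exact ha⟩

/-- The lifts modulo the shifts. -/
noncomputable def quoGen (r : ℕ) (t : ZMod 3) : Mono ⧸ shiftGroup := (monoGen r t : Mono)

lemma monoGen_add {r : ℕ} (hr : r < 12) (t u : ZMod 3) :
    monoGen r t * monoGen r u = monoGen r (t + u) := by
  refine Subtype.ext (Equiv.ext fun s => Fin.ext ?_)
  rw [Subgroup.coe_mul, Equiv.Perm.mul_apply, monoGen_val hr, monoGen_val hr, monoGen_val hr,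
    cGen_add hr _ _ s.isLt]

lemma monoGen_zero (r : ℕ) : monoGen r 0 = 1 := by
  by_cases hr : r < 12
  · refine Subtype.ext (Equiv.ext fun s => Fin.ext ?_)
    rw [monoGen_val hr, cGen_zero]
    rfl
  · rw [monoGen, dif_neg hr]

/-- The commutator relation modulo the shifts. -/
lemma quoGen_comm {r s : ℕ} (hr : r < 12) (hs : s < 12) (hne : s ≠ r) (hneg : s ≠ tabG2.neg r)
    (t u : ZMod 3) : quoGen r (-t) * quoGen s u * quoGen r t =
      quoGen s u * ((tabG2.commTerms r s).map fun c =>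
        quoGen c.1 ((c.2.1 : ZMod 3) * (-t) ^ c.2.2.1 * u ^ c.2.2.2)).prod := by
  have hn : tabG2.n = 12 := terms_nil.2.2.2.1
  have hterm : ∀ c ∈ tabG2.commTerms r s, c.1 < 12 := fun c hc =>
    hn ▸ certG2.commTerms_lt (hn.symm ▸ hr) (hn.symm ▸ hs) hc
  let q : Mono →* Mono ⧸ shiftGroup := QuotientGroup.mk' shiftGroup
  have hq : ∀ (a : ℕ) (v : ZMod 3), quoGen a v = q (monoGen a v) := fun _ _ => rfl
  by_cases htu : t = 0 ∨ u = 0
  · have hone : ((tabG2.commTerms r s).map fun c =>
        quoGen c.1 ((c.2.1 : ZMod 3) * (-t) ^ c.2.2.1 * u ^ c.2.2.2)).prod = 1 := by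
      refine List.prod_eq_one fun g hg => ?_
      obtain ⟨c, hc, rfl⟩ := List.mem_map.1 hg
      have hpos : c.2.2.1 ≠ 0 ∧ c.2.2.2 ≠ 0 := by
        simp only [Tab.commTerms, List.mem_filterMap, Option.map_eq_some_iff] at hc
        obtain ⟨a, ha, k, hk, rfl⟩ := hc
        simp only [List.mem_cons, List.not_mem_nil, or_false] at ha
        rcases ha with rfl | rfl | rfl | rfl | rfl | rfl | rfl <;> simp
      rcases htu with rfl | rfl
      · rw [neg_zero, zero_pow hpos.1, mul_zero, zero_mul, hq, monoGen_zero, map_one]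
      · rw [zero_pow hpos.2, mul_zero, hq, monoGen_zero, map_one]
    rw [hone, mul_one, hq, hq, hq, ← map_mul, ← map_mul]
    rcases htu with rfl | rfl
    · rw [neg_zero, monoGen_zero, one_mul, mul_one]
    · rw [monoGen_zero, mul_one, monoGen_add hr, neg_add_cancel, monoGen_zero]
  · have h := relChk_all hr
    simp only [relChk, List.all_eq_true, List.mem_range] at h
    have h1 := h s hs
    have hb : (Nat.beq s r || Nat.beq s (tabG2.neg r)) = false := by
      rw [Bool.eq_false_iff]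
      simp only [ne_eq, Bool.or_eq_true, Nat.beq_eq, not_or]
      exact ⟨hne, hneg⟩
    rw [hb, cond_false, List.all_eq_true] at h1
    have hmem : ∀ v : ZMod 3, v ∈ ([0, 1, 2] : List (ZMod 3)) := fun v => by
      rcases zmod_three_cases v with rfl | rfl | rfl <;> simp
    have h2 := h1 t (hmem t)
    rw [List.all_eq_true] at h2
    have h3 := h2 u (hmem u)
    rw [decide_eq_false htu, cond_false, List.any_eq_true] at h3
    obtain ⟨d, -, hd⟩ := h3
    have e := congrArg q (eq_of_cEq (by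
      intro g hg
      simp only [List.mem_cons, List.not_mem_nil, or_false] at hg
      rcases hg with rfl | rfl | rfl <;> assumption) (by
      intro g hg
      rcases List.mem_cons.1 hg with rfl | hg
      · exact hs
      obtain ⟨c, hc, rfl⟩ := List.mem_map.1 hg
      exact hterm c hc) hd)
    have hz : q (monoZ ^ d) = 1 :=
      (QuotientGroup.eq_one_iff _).2 (Subgroup.npow_mem_zpowers monoZ d)
    simp only [List.map_cons, List.map_nil, List.prod_cons, List.prod_nil, mul_one, map_mul, hz,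
      one_mul, map_list_prod, cTerms, List.map_map] at e
    simp only [hq]
    rw [mul_assoc, e]
    rfl

universe u

variable {K : Type u} [Field K]

/-- The map of the Steinberg cover. -/
theorem exists_quoHom (e : ZMod 3 ≃+* K) :
    ∃ f : chevG2.SteinbergCover K →* Mono ⧸ shiftGroup, ∀ r t, r < 12 →
      f (PresentedGroup.mk _ (chevG2.stX r t)) = quoGen r (e.symm t) := by
  have hn : tabG2.n = 12 := terms_nil.2.2.2.1
  let g : Fin chevG2.nroots × K → Mono ⧸ shiftGroup := fun p => quoGen p.1.val (e.symm p.2)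
  have hst : ∀ r, r < 12 → ∀ t, FreeGroup.lift g (chevG2.stX r t) = quoGen r (e.symm t) := by
    intro r hr t
    rw [ChevalleyDatum.stX, dif_pos (by rw [certG2.nroots_eq, hn]; exact hr),
      FreeGroup.lift_apply_of]
  have hadd : ∀ r, r < 12 → ∀ a b, quoGen r a * quoGen r b = quoGen r (a + b) := fun r hr a b => by
    simp only [quoGen, ← QuotientGroup.mk_mul, monoGen_add hr]
  have hinv : ∀ r, r < 12 → ∀ a, (quoGen r a)⁻¹ = quoGen r (-a) := fun r hr a =>
    inv_eq_of_mul_eq_one_right (by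
      rw [hadd r hr, add_neg_cancel, quoGen, monoGen_zero, QuotientGroup.mk_one])
  have hrel : ∀ a ∈ chevG2.steinbergRelsAB K, FreeGroup.lift g a = 1 := by
    rintro a (⟨r, t₁, t₂, hr, rfl⟩ | ⟨r, s, t, u, hr, hs, hne, hneg, rfl⟩)
    · rw [certG2.nroots_eq, hn] at hr
      rw [map_mul, map_mul, map_inv, hst r hr, hst r hr, hst r hr, hadd r hr, map_add,
        mul_inv_cancel]
    · rw [certG2.nroots_eq, hn] at hr hs
      have hrn : r < tabG2.n := hn.symm ▸ hr
      have hsn : s < tabG2.n := hn.symm ▸ hs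
      rw [certG2.neg_eq hrn] at hneg
      rw [map_mul, map_mul, map_mul, map_mul, map_inv, map_inv, map_inv, hst r hr, hst s hs,
        hinv r hr, mul_inv_eq_one, mul_assoc (quoGen s (e.symm u))⁻¹,
        mul_assoc (quoGen s (e.symm u))⁻¹, quoGen_comm hr hs hne hneg, inv_mul_cancel_left,
        ChevalleyDatum.stWord, map_list_prod, ChevalleyDatum.commWord,
        certG2.commTerms_eq hrn hsn, List.map_map, List.map_map]
      refine congrArg List.prod (List.map_congr_left fun c hc => ?_)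
      rw [Function.comp_apply, Function.comp_apply,
        hst _ (hn ▸ certG2.commTerms_lt hrn hsn hc)]
      simp only [map_mul, map_pow, map_neg, map_intCast]
  exact ⟨PresentedGroup.toGroup hrel, fun r t hr => hst r hr t⟩

/-- The triple cover. -/
theorem exists_cover_three [Fintype K] (hF : Fintype.card K = 3) :
    ∃ (Γ : Type u) (_ : Group Γ) (_ : Finite Γ) (σ : Γ →* ↥(chevG2.group K)),
      Cfsg.IsStemExtension σ ∧ Nonempty (σ.ker ≃* Multiplicative (ZMod 3)) := by
  have : CharP K 3 := charP_of_card Nat.prime_three (k := 1) (by rw [hF, pow_one])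
  let e : ZMod 3 ≃+* K := ZMod.ringEquiv K hF
  obtain ⟨f, hf⟩ := exists_quoHom e
  have hn : tabG2.n = 12 := terms_nil.2.2.2.1
  set θ := certG2.stTheta (K := K) (R := chevG2.steinbergRelsAB K) le_rfl
    (steinbergRelsAB_subset chevG2 K) with hθ
  have hθi : Function.Injective θ := θ.ker_eq_bot_iff.1 ker_stTheta_three
  let eθ : chevG2.SteinbergCover K ≃* ↥(chevG2.group K) :=
    MulEquiv.ofBijective θ ⟨hθi, certG2.stTheta_surjective _ _⟩
  let φ : ↥(chevG2.group K) →* Mono ⧸ shiftGroup := f.comp eθ.symm.toMonoidHom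
  have hφ : ∀ (r : ℕ) (hr : r < tabG2.n) (t : K),
      φ ⟨X chevG2 r t, certG2.X_mem_group hr t⟩ = quoGen r (e.symm t) := by
    intro r hr t
    have h1 : eθ (PresentedGroup.mk _ (chevG2.stX r t)) =
        ⟨X chevG2 r t, certG2.X_mem_group hr t⟩ :=
      Subtype.ext (Units.ext (by
        show ((θ _ : GL chevG2.Idx K) : Matrix chevG2.Idx chevG2.Idx K) = _
        rw [hθ, certG2.stTheta_x _ _ hr, certG2.coe_X]))
    show f (eθ.symm _) = _
    rw [← h1, eθ.symm_apply_apply, hf r t (hn ▸ hr)]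
  let P : Subgroup (↥(chevG2.group K) × Mono) :=
    (φ.comp (MonoidHom.fst _ _)).eqLocus ((QuotientGroup.mk' shiftGroup).comp (MonoidHom.snd _ _))
  let σ : ↥P →* ↥(chevG2.group K) := (MonoidHom.fst _ _).comp P.subtype
  have hsurj : Function.Surjective σ := fun y => by
    obtain ⟨m, hm⟩ := QuotientGroup.mk'_surjective shiftGroup (φ y)
    exact ⟨⟨(y, m), hm.symm⟩, rfl⟩
  have h9 : (9 : ℕ) < tabG2.n := by rw [hn]; norm_num
  have h5 : (5 : ℕ) < tabG2.n := by rw [hn]; norm_num
  let A : ↥P := ⟨(⟨X chevG2 9 (1 : K), certG2.X_mem_group h9 _⟩, monoGen 9 1), by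
    show φ ⟨X chevG2 9 (1 : K), certG2.X_mem_group h9 _⟩ = quoGen 9 1
    rw [hφ 9 h9, map_one]⟩
  let B : ↥P := ⟨(⟨X chevG2 5 (1 : K), certG2.X_mem_group h5 _⟩, monoGen 5 1), by
    show φ ⟨X chevG2 5 (1 : K), certG2.X_mem_group h5 _⟩ = quoGen 5 1
    rw [hφ 5 h5, map_one]⟩
  let Z : ↥P := ⟨(1, monoZ), by
    show φ 1 = (monoZ : Mono)
    rw [map_one, eq_comm, QuotientGroup.eq_one_iff]
    exact Subgroup.mem_zpowers _⟩
  have hcomm : ⁅A⁻¹, B⁆ = Z := by
    refine Subtype.ext (Prod.ext ?_ ?_)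
    · show ⁅(⟨X chevG2 9 (1 : K), certG2.X_mem_group h9 _⟩ : ↥(chevG2.group K))⁻¹,
        (⟨X chevG2 5 (1 : K), certG2.X_mem_group h5 _⟩ : ↥(chevG2.group K))⁆ = 1
      rw [commutatorElement_eq_one_iff_commute]
      refine Commute.inv_left ?_
      exact Subtype.ext (commute_nine_five (K := K) 1 1)
    · show ⁅(monoGen 9 1)⁻¹, monoGen 5 1⁆ = monoZ
      have h := eq_of_cEq (l := [(9, 2), (5, 1), (9, 1)]) (r := [(5, 1)])
        (by simp) (by simp) (d := 1) pairChk
      simp only [List.map_cons, List.map_nil, List.prod_cons, List.prod_nil, mul_one, pow_one] at h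
      have hi : (monoGen 9 (1 : ZMod 3))⁻¹ = monoGen 9 2 := inv_eq_of_mul_eq_one_left (by
        rw [monoGen_add (by norm_num)]
        exact monoGen_zero 9)
      rw [commutatorElement_def, inv_inv, hi, mul_assoc (monoGen 9 2) (monoGen 5 1), h,
        mul_inv_cancel_right]
  have hkerle : σ.ker ≤ Subgroup.zpowers Z := by
    intro p hp
    have hp1 : p.1.1 = 1 := hp
    have hp2 : φ p.1.1 = (p.1.2 : Mono) := p.2
    rw [hp1, map_one, eq_comm, QuotientGroup.eq_one_iff] at hp2
    obtain ⟨k, hk⟩ := Subgroup.mem_zpowers_iff.1 hp2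
    refine Subgroup.mem_zpowers_iff.2 ⟨k, Subtype.ext (Prod.ext ?_ ?_)⟩
    · rw [SubgroupClass.coe_zpow, Prod.pow_fst]
      show (1 : ↥(chevG2.group K)) ^ k = p.1.1
      rw [one_zpow, hp1]
    · rw [SubgroupClass.coe_zpow, Prod.pow_snd]
      exact hk
  have hker : σ.ker = Subgroup.zpowers Z := le_antisymm hkerle (by
    rw [Subgroup.zpowers_le]; rfl)
  have hstem : Cfsg.IsStemExtension σ := by
    refine ⟨hsurj, fun p hp => Subgroup.mem_center_iff.2 fun q => ?_, ?_⟩
    · have hZc : Z ∈ Subgroup.center ↥P := Subgroup.mem_center_iff.2 fun q =>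
        Subtype.ext (Prod.ext ((mul_one _).trans (one_mul _).symm)
          (Subgroup.mem_center_iff.1 monoZ_center q.1.2))
      exact Subgroup.mem_center_iff.1 (Subgroup.zpowers_le.2 hZc (hkerle hp)) q
    · refine hkerle.trans ?_
      rw [Subgroup.zpowers_le, ← hcomm]
      exact Subgroup.commutator_mem_commutator (Subgroup.mem_top _) (Subgroup.mem_top _)
  have hord : orderOf Z = 3 := by
    refine orderOf_eq_prime (Subtype.ext (Prod.ext (one_pow 3) ?_)) ?_
    · refine Subtype.ext (Equiv.ext fun s => Fin.ext ?_)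
      show (((shiftPerm ^ 3) s : St) : ℕ) = s
      rw [shiftPerm_pow]; simp only [cShift]; omega
    · intro h
      have := congrArg (fun p : ↥P => ((p.1.2.1 ⟨0, by norm_num⟩ : St) : ℕ)) h
      exact absurd this (by show cShift 1 0 ≠ 0; decide)
  have hcard : Nat.card σ.ker = 3 := by rw [hker, Nat.card_zpowers, hord]
  refine ⟨↥P, inferInstance, inferInstance, σ, hstem, ⟨?_⟩⟩
  have : Fact (Nat.Prime 3) := ⟨Nat.prime_three⟩
  exact mulEquivOfPrimeCardEq hcard (by
    rw [Nat.card_congr Multiplicative.toAdd, Nat.card_zmod])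

end CfsgLib.GTwoThree
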