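import Cfsg.Agent.Lib.Chev.GTwoThree.CoverData
import Cfsg.Agent.Lib.Chev.CertG2

/-!
The kernel checks of the monomial triple cover of `G₂(3)`: the root permutations satisfy
Steinberg's relations up to the shift of the fibres.
-/

set_option autoImplicit false
set_option maxRecDepth 100000

namespace CfsgLib.GTwoThree

open CfsgLib.Chev

/-- One table applied to a state. -/
noncomputable def cStep (P s : ℕ) : ℕ :=
  Nat.land (Nat.shiftRight P (Nat.mul 16 s)) 65535

/-- The shift of a fibre. -/
def cShift (d s : ℕ) : ℕ := 3 * (s / 3) + (s % 3 + d) % 3

/-- A word of root permutations applied to a state. -/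
noncomputable def cAct (w : List (ℕ × ℕ)) (s : ℕ) : ℕ :=
  w.foldr (fun g a => cond (Nat.beq g.2 0) a (cStep (coverRow g.1 g.2) a)) s

/-- The right hand side of a relation. -/
noncomputable def cTerms (r s : ℕ) (t u : ZMod 3) : List (ℕ × ZMod 3) :=
  (tabG2.commTerms r s).map fun c => (c.1, (c.2.1 : ZMod 3) * (-t) ^ c.2.2.1 * u ^ c.2.2.2)

/-- A word with parameters in the prime field. -/
def cWord (w : List (ℕ × ZMod 3)) : List (ℕ × ℕ) := w.map fun g => (g.1, g.2.val)

/-- All the base states agree up to the shift `d`. -/
noncomputable def cEq (d : ℕ) (l r : List (ℕ × ℕ)) : Bool :=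
  (List.range 351).all fun i => Nat.beq (cAct l (3 * i)) (cShift d (cAct r (3 * i)))

/-- The relations starting at the root `r`. -/
noncomputable def relChk (r : ℕ) : Bool :=
  (List.range 12).all fun s =>
    cond (Nat.beq s r || Nat.beq s (tabG2.neg r)) true <|
      [0, 1, 2].all fun t : ZMod 3 => [0, 1, 2].all fun u : ZMod 3 =>
        cond (decide (t = 0 ∨ u = 0)) true <| (List.range 3).any fun d =>
          cEq d (cWord [(r, -t), (s, u), (r, t)]) (cWord ((s, u) :: cTerms r s t u))

/-- Each table permutes the states, commutes with the shift, and has period three. -/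
noncomputable def permChk (r : ℕ) : Bool :=
  (List.range 1053).all fun s =>
    [1, 2].all (fun t => Nat.blt (cStep (coverRow r t) s) 1053 &&
      Nat.beq (cStep (coverRow r t) (cShift 1 s)) (cShift 1 (cStep (coverRow r t) s))) &&
    Nat.beq (cStep (coverRow r 1) (cStep (coverRow r 1) s)) (cStep (coverRow r 2) s) &&
    Nat.beq (cStep (coverRow r 1) (cStep (coverRow r 2) s)) s &&
    Nat.beq (cStep (coverRow r 2) (cStep (coverRow r 1) s)) s

/-- The orthogonal pair has a non-trivial commutator. -/
theorem pairChk : cEq 1 (cWord [(9, 2), (5, 1), (9, 1)]) (cWord [(5, 1)]) = true := by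
  decide +kernel

theorem permChk_0 : permChk 0 = true := by decide +kernel
theorem permChk_1 : permChk 1 = true := by decide +kernel
theorem permChk_2 : permChk 2 = true := by decide +kernel
theorem permChk_3 : permChk 3 = true := by decide +kernel
theorem permChk_4 : permChk 4 = true := by decide +kernel
theorem permChk_5 : permChk 5 = true := by decide +kernel
theorem permChk_6 : permChk 6 = true := by decide +kernel
theorem permChk_7 : permChk 7 = true := by decide +kernel
theorem permChk_8 : permChk 8 = true := by decide +kernel
theorem permChk_9 : permChk 9 = true := by decide +kernel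
theorem permChk_10 : permChk 10 = true := by decide +kernel
theorem permChk_11 : permChk 11 = true := by decide +kernel
theorem relChk_0 : relChk 0 = true := by decide +kernel
theorem relChk_1 : relChk 1 = true := by decide +kernel
theorem relChk_2 : relChk 2 = true := by decide +kernel
theorem relChk_3 : relChk 3 = true := by decide +kernel
theorem relChk_4 : relChk 4 = true := by decide +kernel
theorem relChk_5 : relChk 5 = true := by decide +kernel
theorem relChk_6 : relChk 6 = true := by decide +kernel
theorem relChk_7 : relChk 7 = true := by decide +kernel
theorem relChk_8 : relChk 8 = true := by decide +kernel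
theorem relChk_9 : relChk 9 = true := by decide +kernel
theorem relChk_10 : relChk 10 = true := by decide +kernel
theorem relChk_11 : relChk 11 = true := by decide +kernel

theorem permChk_all {r : ℕ} (hr : r < 12) : permChk r = true := by
  interval_cases r
  exact permChk_0
  exact permChk_1
  exact permChk_2
  exact permChk_3
  exact permChk_4
  exact permChk_5
  exact permChk_6
  exact permChk_7
  exact permChk_8
  exact permChk_9
  exact permChk_10
  exact permChk_11

theorem relChk_all {r : ℕ} (hr : r < 12) : relChk r = true := by
  interval_cases r
  exact relChk_0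
  exact relChk_1
  exact relChk_2
  exact relChk_3
  exact relChk_4
  exact relChk_5
  exact relChk_6
  exact relChk_7
  exact relChk_8
  exact relChk_9
  exact relChk_10
  exact relChk_11

end CfsgLib.GTwoThree
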