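import Cfsg.Agent.Lib.Chev.GTwoThree.Rep
import Cfsg.Agent.Lib.Chev.GTwoThree.Cent
import Cfsg.Agent.Lib.Chev.OrderData
import Cfsg.Agent.S1055
import Cfsg.Agent.Lib.SL2.PSLCensus

/-!
The prime graphs of `G₂(3)` and `PSL(2,13)`.
-/

set_option autoImplicit false
set_option linter.style.haveILetI false

namespace CfsgLib.GTwoThree

open Matrix Cfsg.Lie

theorem xMat_inv : ∀ (r : Fin 12) (u : ZMod 3),
    chevG2.xMat (ZMod 3) r u * chevG2.xMat (ZMod 3) r (-u) = 1 := by
  decide +kernel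

variable {F : Type*} [Field F] [Fintype F]

/-- A root element. -/
noncomputable def rootEl (e : ZMod 3 ≃+* F) (r : Fin 12) (u : ZMod 3) : chevG2.group F :=
  ⟨⟨(chevG2.xMat (ZMod 3) r u).map e, (chevG2.xMat (ZMod 3) r (-u)).map e,
      by rw [← Matrix.map_mul, xMat_inv, Matrix.map_one _ (map_zero e) (map_one e)],
      by
        have h := xMat_inv r (-u)
        rw [neg_neg] at h
        rw [← Matrix.map_mul, h, Matrix.map_one _ (map_zero e) (map_one e)]⟩,
    Subgroup.subset_closure ⟨r, e u, (xMat_map e.toRingHom r u).symm⟩⟩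

theorem rep_rootEl (e : ZMod 3 ≃+* F) (r : Fin 12) (u : ZMod 3) :
    rep e (rootEl e r u) = genSeven r u := by
  rw [← (root_spec r u).2]
  ext i j
  show e.symm (e (chevG2.xMat (ZMod 3) r u (sel i) (sel j))) = _
  rw [e.symm_apply_apply]
  rfl

/-- The word of the element of order thirteen. -/
theorem word_spec : genSeven 6 1 * genSeven 7 1 * genSeven 5 1 * genSeven 4 2 = eltThirteen ∧
    genSeven 6 1 * genSeven 7 1 * genSeven 5 2 * genSeven 4 2 = eltSeven ∧
    genSeven 6 1 * genSeven 6 1 * genSeven 5 1 = eltSix := by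
  decide +kernel

theorem orderOf_eq_of_mul {G : Type*} [Group G] [Finite G] {g : G} {n : ℕ} (h : n ∣ orderOf g) :
    ∃ x : G, orderOf x = n := by
  refine ⟨g ^ (orderOf g / n), ?_⟩
  rw [orderOf_pow, Nat.gcd_eq_right (Nat.div_dvd_of_dvd h), Nat.div_div_self h (orderOf_pos g).ne']

theorem not_orderOf_mul {G : Type*} [Group G] [Finite G] {p r : ℕ} [hp : Fact p.Prime] {y : G}
    (hy : orderOf y = p) (hsq : ¬ p ^ 2 ∣ Nat.card G) (hC : ∀ g : G, Commute g y → g ^ p = 1)
    (hr : r.Prime) (hne : r ≠ p) : ¬ ∃ g : G, orderOf g = p * r := by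
  rintro ⟨g, hg⟩
  have hgr : orderOf (g ^ r) = p := by
    rw [orderOf_pow, hg, Nat.gcd_eq_right (dvd_mul_left r p), Nat.mul_div_left _ hr.pos]
  have hmem : ∀ x : G, orderOf x = p → ∃ P : Sylow p G, (P : Subgroup G) = Subgroup.zpowers x := by
    intro x hx
    obtain ⟨P, hP⟩ := (IsPGroup.of_card (p := p) (n := 1)
      (by rw [Nat.card_zpowers, hx, pow_one]) : IsPGroup p (Subgroup.zpowers x)).exists_le_sylow
    refine ⟨P, (Subgroup.eq_of_le_of_card_ge hP ?_).symm⟩
    rw [Nat.card_zpowers, hx]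
    obtain ⟨n, hn⟩ := IsPGroup.iff_card.1 P.isPGroup'
    rw [hn]
    have : n ≤ 1 := by
      by_contra h
      exact hsq ((pow_dvd_pow p (Nat.not_le.1 h)).trans (hn ▸ (P : Subgroup G).card_subgroup_dvd_card))
    calc p ^ n ≤ p ^ 1 := Nat.pow_le_pow_right hp.out.pos this
      _ = p := pow_one p
  obtain ⟨P, hP⟩ := hmem _ hgr
  obtain ⟨Q, hQ⟩ := hmem _ hy
  obtain ⟨c, hc⟩ := MulAction.exists_smul_eq G Q P
  have h1 : y ∈ (Q : Subgroup G) := by rw [hQ]; exact Subgroup.mem_zpowers y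
  have h2 : c * y * c⁻¹ ∈ (P : Subgroup G) := by
    rw [← hc, Sylow.coe_subgroup_smul]
    exact ⟨y, h1, rfl⟩
  rw [hP, Subgroup.mem_zpowers_iff] at h2
  obtain ⟨m, hm⟩ := h2
  have h3 : Commute g (c * y * c⁻¹) := hm ▸ ((Commute.refl g).pow_right r).zpow_right m
  have h4 : Commute (c⁻¹ * g * c) y := by
    have := h3.map (MulAut.conj c⁻¹).toMonoidHom
    simpa [mul_assoc] using this
  have h5 := hC _ h4
  rw [show (c⁻¹ * g * c) ^ p = c⁻¹ * g ^ p * c by
    rw [show c⁻¹ * g * c = c⁻¹ * g * c⁻¹⁻¹ by rw [inv_inv], conj_pow, inv_inv]] at h5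
  have h6 : g ^ p = 1 := by
    have := congrArg (fun z => c * z * c⁻¹) h5
    simpa [mul_assoc] using this
  have h7 := Nat.le_of_dvd hp.out.pos (hg ▸ orderOf_dvd_of_pow_eq_one h6)
  have := Nat.mul_le_mul (le_refl p) hr.two_le
  have := hp.out.pos
  omega

theorem card_three (hF : Fintype.card F = 3) :
    Nat.card (chevG2.group F) = 4245696 := by
  rw [CfsgLib.Chev.card_groupG2, hF]
  norm_num

theorem equiv_three (hF : Fintype.card F = 3) : Nonempty (ZMod 3 ≃+* F) :=
  ⟨FiniteField.ringEquivOfCardEq (K := ZMod 3) (K' := F) (by rw [hF, ZMod.card])⟩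

theorem rep_injective (hF : Fintype.card F = 3) (e : ZMod 3 ≃+* F) :
    Function.Injective (rep e) := by
  have h : IsSimpleGroup ↥(chevG2.group F) := (Cfsg.Agent.S1055.result (by
    refine ⟨e 2, ?_, ?_⟩
    · exact fun h => absurd (e.injective (h.trans (map_zero e).symm)) (by decide)
    · exact fun h => absurd (e.injective (h.trans (map_one e).symm)) (by decide))).1
  rw [← MonoidHom.ker_eq_bot_iff]
  refine (MonoidHom.normal_ker (rep e)).eq_bot_or_eq_top.resolve_right fun ht => eltThirteen_ne ?_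
  rw [← word_spec.1, ← rep_rootEl e, ← rep_rootEl e, ← rep_rootEl e, ← rep_rootEl e,
    ← map_mul, ← map_mul, ← map_mul]
  exact MonoidHom.mem_ker.1 (ht ▸ Subgroup.mem_top _)

theorem g2_orders (hF : Fintype.card F = 3) :
    (∃ x : chevG2.group F, orderOf x = 6) ∧
    (∀ r : ℕ, r.Prime → r ≠ 13 → ¬ ∃ x : chevG2.group F, orderOf x = 13 * r) ∧
    (∀ r : ℕ, r.Prime → r ≠ 7 → ¬ ∃ x : chevG2.group F, orderOf x = 7 * r) := by
  obtain ⟨e⟩ := equiv_three hF
  have hinj := rep_injective hF e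
  haveI : Fact (Nat.Prime 13) := ⟨by norm_num⟩
  haveI : Fact (Nat.Prime 7) := ⟨by norm_num⟩
  have ho : ∀ x : chevG2.group F, orderOf (rep e x) = orderOf x := fun x =>
    orderOf_injective (rep e) hinj x
  refine ⟨?_, ?_, ?_⟩
  · refine ⟨rootEl e 6 1 * rootEl e 6 1 * rootEl e 5 1, ?_⟩
    rw [← ho, map_mul, map_mul, rep_rootEl, rep_rootEl, word_spec.2.2]
    obtain ⟨A, B, hA, hB, hBB, hA1, hB1⟩ := six_spec
    have h2 : eltSix ^ 2 = A := by rw [pow_two, hA]
    have h3 : eltSix ^ 3 = B := by rw [pow_succ, h2, hB]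
    have h6 : eltSix ^ 6 = 1 := by rw [show (6 : ℕ) = 3 + 3 from rfl, pow_add, h3, hBB]
    have hd := orderOf_dvd_of_pow_eq_one h6
    have hle := Nat.le_of_dvd (by norm_num) hd
    have n2 : ¬ orderOf eltSix ∣ 2 := fun h => hA1 (h2 ▸ orderOf_dvd_iff_pow_eq_one.1 h)
    have n3 : ¬ orderOf eltSix ∣ 3 := fun h => hB1 (h3 ▸ orderOf_dvd_iff_pow_eq_one.1 h)
    interval_cases hh : orderOf eltSix <;> omega
  · intro r hr hne
    refine not_orderOf_mul (y := rootEl e 6 1 * rootEl e 7 1 * rootEl e 5 1 * rootEl e 4 2) ?_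
      (by rw [card_three hF]; norm_num) (fun g hg => ?_) hr hne
    · rw [← ho, map_mul, map_mul, map_mul, rep_rootEl, rep_rootEl, rep_rootEl, rep_rootEl,
        word_spec.1]
      exact orderOf_eq_prime eltThirteen_order eltThirteen_ne
    · apply hinj
      rw [map_pow, map_one]
      refine pow_eq_oneThirteen (pres_rep e g) ?_ fun h0 => ?_
      · have := hg.map (rep e)
        rwa [map_mul, map_mul, map_mul, rep_rootEl, rep_rootEl, rep_rootEl, rep_rootEl,
          word_spec.1] at this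
      · have := map_mul (rep e) g g⁻¹
        rw [mul_inv_cancel, map_one, h0, Matrix.zero_mul] at this
        exact one_ne_zero this
  · intro r hr hne
    refine not_orderOf_mul (y := rootEl e 6 1 * rootEl e 7 1 * rootEl e 5 2 * rootEl e 4 2) ?_
      (by rw [card_three hF]; norm_num) (fun g hg => ?_) hr hne
    · rw [← ho, map_mul, map_mul, map_mul, rep_rootEl, rep_rootEl, rep_rootEl, rep_rootEl,
        word_spec.2.1]
      exact orderOf_eq_prime eltSeven_order eltSeven_ne
    · apply hinj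
      rw [map_pow, map_one]
      refine pow_eq_oneSeven (pres_rep e g) ?_ fun h0 => ?_
      · have := hg.map (rep e)
        rwa [map_mul, map_mul, map_mul, rep_rootEl, rep_rootEl, rep_rootEl, rep_rootEl,
          word_spec.2.1] at this
      · have := map_mul (rep e) g g⁻¹
        rw [mul_inv_cancel, map_one, h0, Matrix.zero_mul] at this
        exact one_ne_zero this

end CfsgLib.GTwoThree
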