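import Cfsg.Agent.Lib.SL2.PSLCensus
import Cfsg.Agent.Lib.Classical.Card

/-!
Order and element orders of `PSL(2,13)`.
-/

set_option autoImplicit false
set_option linter.style.haveILetI false

namespace CfsgLib.GTwoThree

open Matrix
open scoped MatrixGroups

variable {E : Type*} [Field E] [Fintype E]

theorem card_psl_thirteen (hE : Fintype.card E = 13) :
    Nat.card (ProjectiveSpecialLinearGroup (Fin 2) E) = 1092 := by
  have h := CfsgLib.Classical.card_PSL_two (F := E)
  rw [hE] at h
  norm_num at h ⊢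
  omega

theorem det_diag : (!![2, 0; 0, 7] : Matrix (Fin 2) (Fin 2) (ZMod 13)).det = 1 := by decide +kernel

/-- The diagonal element with entries `2` and `7`. -/
def diagEl : SL(2, ZMod 13) := ⟨!![2, 0; 0, 7], det_diag⟩

theorem diagEl_spec : diagEl ^ 6 = -1 ∧ diagEl ^ 2 ≠ 1 ∧ diagEl ^ 2 ≠ -1 ∧ diagEl ^ 3 ≠ 1 ∧ diagEl ^ 3 ≠ -1 := by
  decide +kernel

theorem orders_psl_thirteen (hE : Fintype.card E = 13) :
    (∃ y : ProjectiveSpecialLinearGroup (Fin 2) E, orderOf y = 6) ∧
    ∀ y : ProjectiveSpecialLinearGroup (Fin 2) E, orderOf y = 13 ∨ orderOf y ∣ 6 ∨ orderOf y ∣ 7 := by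
  classical
  haveI : Fact (Nat.Prime 13) := ⟨by norm_num⟩
  haveI : CharP E 13 := charP_of_card_eq_prime_pow (f := 1) (by rw [hE]; norm_num)
  refine ⟨?_, fun y => ?_⟩
  · let e : ZMod 13 ≃+* E := FiniteField.ringEquivOfCardEq (by rw [hE, ZMod.card])
    let d : SL(2, ZMod 13) := diagEl
    let f : SL(2, ZMod 13) →* SL(2, E) := Matrix.SpecialLinearGroup.map e.toRingHom
    have hd : ∀ k : ℕ, CfsgLib.SL2.proj (f d) ^ k = 1 ↔
        ((d ^ k : SL(2, ZMod 13)) = 1 ∨ (d ^ k : SL(2, ZMod 13)) = -1) := by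
      intro k
      have hf : Function.Injective f := fun a b h => Subtype.ext
        (Matrix.map_injective e.injective (congrArg Subtype.val h))
      have hneg : f (-1) = -1 := Subtype.ext (by ext i j; fin_cases i <;> fin_cases j <;> simp [f])
      rw [← map_pow, CfsgLib.SL2.proj_eq_one_iff, ← map_pow]
      constructor
      · intro h
        rcases CfsgLib.SL2.eq_one_or_eq_neg_one_of_mem_center _ h with h' | h'
        · exact Or.inl (hf (h'.trans f.map_one.symm))
        · exact Or.inr (hf (h'.trans hneg.symm))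
      · rintro (h | h)
        · rw [h, map_one]; exact Subgroup.one_mem _
        · rw [h, hneg, Subgroup.mem_center_iff]
          intro g; simp
    refine ⟨CfsgLib.SL2.proj (f d), ?_⟩
    have h6 : CfsgLib.SL2.proj (f d) ^ 6 = 1 := (hd 6).2 (Or.inr diagEl_spec.1)
    have n2 : ¬ orderOf (CfsgLib.SL2.proj (f d)) ∣ 2 := fun h => by
      rcases (hd 2).1 (orderOf_dvd_iff_pow_eq_one.1 h) with h' | h'
      · exact diagEl_spec.2.1 h'
      · exact diagEl_spec.2.2.1 h'
    have n3 : ¬ orderOf (CfsgLib.SL2.proj (f d)) ∣ 3 := fun h => by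
      rcases (hd 3).1 (orderOf_dvd_iff_pow_eq_one.1 h) with h' | h'
      · exact diagEl_spec.2.2.2.1 h'
      · exact diagEl_spec.2.2.2.2 h'
    have hdv := orderOf_dvd_of_pow_eq_one h6
    have hle := Nat.le_of_dvd (by norm_num) hdv
    interval_cases hh : orderOf (CfsgLib.SL2.proj (f d)) <;> omega
  · by_cases hy : y = 1
    · exact Or.inr (Or.inl (by rw [hy, orderOf_one]; exact one_dvd _))
    rcases CfsgLib.SL2.semi_or_orderOf 13 y hy with h | h
    · exact Or.inl h
    · have hreg := CfsgLib.SL2.regular_of_semi 13 (CfsgLib.SL2.proj_liftSL y) h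
      have hd := Subgroup.orderOf_dvd_natCard (CfsgLib.SL2.torus y) (CfsgLib.SL2.mem_torus y)
      rcases (CfsgLib.SL2.proj_cent_regular hreg).2 with e | e <;>
        rw [CfsgLib.SL2.torus, e, Nat.card_eq_fintype_card, hE] at hd <;> norm_num at hd
      · exact Or.inr (Or.inl hd)
      · exact Or.inr (Or.inr hd)

end CfsgLib.GTwoThree
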