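import Cfsg.Agent.Lib.Chev.GTwoThree.Table
import Cfsg.Prelude.Def_ChevG2

set_option autoImplicit false
set_option linter.style.haveILetI false

/-!
The seven-dimensional representation of `G₂(3)` on the ideal of short roots.
-/

namespace CfsgLib.GTwoThree

open Matrix Cfsg.Lie

abbrev Idx : Type := chevG2.Idx

/-- The short roots and the short coroot among the coordinates. -/
def sel : Fin 7 → Idx :=
  ![Sum.inl (0 : Fin 2), Sum.inr (2 : Fin 12), Sum.inr (3 : Fin 12), Sum.inr (4 : Fin 12),
    Sum.inr (7 : Fin 12), Sum.inr (8 : Fin 12), Sum.inr (9 : Fin 12)]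

theorem sel_injective : Function.Injective sel := by decide +kernel

variable {F : Type*} [Field F]

/-- The span of the selected coordinates is invariant. -/
def Block (M : Matrix Idx Idx F) : Prop := ∀ r, r ∉ Set.range sel → ∀ c, M r (sel c) = 0

theorem block_one : Block (1 : Matrix Idx Idx F) := fun r hr c =>
  Matrix.one_apply_ne fun e => hr ⟨c, e.symm⟩

theorem submatrix_mul (M : Matrix Idx Idx F) {N : Matrix Idx Idx F} (hN : Block N) :
    (M * N).submatrix sel sel = M.submatrix sel sel * N.submatrix sel sel := by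
  ext i j
  rw [Matrix.submatrix_apply, Matrix.mul_apply, Matrix.mul_apply]
  refine (Finset.sum_bij_ne_zero (fun x _ _ => sel x) ?_ ?_ ?_ ?_).symm
  · exact fun _ _ _ => Finset.mem_univ _
  · exact fun a _ _ b _ _ e => sel_injective e
  · intro b _ hb
    by_cases hr : b ∈ Set.range sel
    · obtain ⟨x, rfl⟩ := hr
      exact ⟨x, Finset.mem_univ _, hb, rfl⟩
    · exact absurd (by rw [hN b hr j, mul_zero]) hb
  · exact fun _ _ _ => rfl

theorem Block.mul {M N : Matrix Idx Idx F} (hM : Block M) (hN : Block N) : Block (M * N) := by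
  intro r hr c
  rw [Matrix.mul_apply]
  refine Finset.sum_eq_zero fun x _ => ?_
  by_cases hx : x ∈ Set.range sel
  · obtain ⟨x', rfl⟩ := hx
    rw [hM r hr x', zero_mul]
  · rw [hN x hx c, mul_zero]

theorem xMat_map (e : ZMod 3 →+* F) (r : Fin chevG2.nroots) (u : ZMod 3) :
    chevG2.xMat F r (e u) = (chevG2.xMat (ZMod 3) r u).map e := by
  ext i j
  unfold ChevalleyDatum.xMat
  rw [Matrix.map_apply]
  simp only [Matrix.of_apply]
  rcases j with j | j <;> rcases i with i | i <;>
    simp only [apply_ite e, map_one, map_zero, map_neg, map_mul, map_pow, map_intCast, map_add,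
      map_list_sum, List.map_map, Function.comp_def]

theorem root_spec : ∀ (r : Fin 12) (u : ZMod 3),
    (∀ x : Idx, (∀ c, sel c ≠ x) → ∀ c, chevG2.xMat (ZMod 3) r u x (sel c) = 0) ∧
      (chevG2.xMat (ZMod 3) r u).submatrix sel sel = genSeven r u := by
  decide +kernel

/-- The representation on the selected coordinates. -/
def repMat (e : ZMod 3 ≃+* F) (g : GL Idx F) : MatSeven :=
  ((g : Matrix Idx Idx F).submatrix sel sel).map e.symm

variable [Finite F]

theorem rep_spec (e : ZMod 3 ≃+* F) {g : GL Idx F} (hg : g ∈ chevG2.group F) :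
    Block (g : Matrix Idx Idx F) ∧ Pres (repMat e g) := by
  classical
  haveI : Fintype F := Fintype.ofFinite F
  let S : Submonoid (GL Idx F) :=
    { carrier := {g | Block (g : Matrix Idx Idx F) ∧ Pres (repMat e g)}
      one_mem' := ⟨by simpa using block_one, by
        simpa [repMat, Matrix.submatrix_one _ sel_injective] using pres_one⟩
      mul_mem' := fun {a b} ha hb => ⟨by simpa using ha.1.mul hb.1, by
        simpa [repMat, submatrix_mul _ hb.1, Matrix.map_mul] using ha.2.mul hb.2⟩ }
  show g ∈ S
  have hgen : ∀ x : GL Idx F, (∃ (r : Fin chevG2.nroots) (t : F),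
      (x : Matrix Idx Idx F) = chevG2.xMat F r t) → x ∈ S := by
    rintro x ⟨r, t, hx⟩
    obtain ⟨u, rfl⟩ := e.surjective t
    have h1 : (x : Matrix Idx Idx F) = (chevG2.xMat (ZMod 3) r u).map e :=
      hx.trans (xMat_map e.toRingHom r u)
    obtain ⟨hb, hs⟩ := root_spec r u
    refine ⟨fun x' hx' c => ?_, ?_⟩
    · rw [h1, Matrix.map_apply, hb x' (fun c e' => hx' ⟨c, e'⟩) c, map_zero]
    · have : repMat e x = (chevG2.xMat (ZMod 3) r u).submatrix sel sel := by
        ext i j
        simp [repMat, h1]
      rw [this, hs]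
      exact pres_gen r u
  induction hg using Subgroup.closure_induction with
  | mem x hx => exact hgen x hx
  | one => exact S.one_mem
  | mul a b _ _ ha hb => exact S.mul_mem ha hb
  | inv a _ ha =>
    rw [show a⁻¹ = a ^ (orderOf a - 1) from inv_eq_of_mul_eq_one_right (by
      rw [← pow_succ', Nat.sub_add_cancel (orderOf_pos a), pow_orderOf_eq_one])]
    exact S.pow_mem ha _

/-- The representation. -/
noncomputable def rep (e : ZMod 3 ≃+* F) : chevG2.group F →* MatSeven where
  toFun g := repMat e g.1
  map_one' := by simp [repMat, Matrix.submatrix_one _ sel_injective]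
  map_mul' a b := by simp [repMat, submatrix_mul _ (rep_spec e b.2).1, Matrix.map_mul]

theorem pres_rep (e : ZMod 3 ≃+* F) (g : chevG2.group F) : Pres (rep e g) := (rep_spec e g.2).2

end CfsgLib.GTwoThree
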