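import Mathlib

set_option autoImplicit false
set_option maxRecDepth 10000

/-!
The seven-dimensional algebra of short roots of `G₂` in characteristic three, and the
centralizers of elements of orders 7 and 13 in its automorphism group.
-/

namespace CfsgLib.GTwoThree

open Matrix

abbrev MatSeven : Type := Matrix (Fin 7) (Fin 7) (ZMod 3)

/-- The structure constants. -/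
def brk : Fin 7 → MatSeven := ![
  !![0, 0, 0, 0, 0, 0, 0; 0, 0, 0, 0, 0, 0, 1; 0, 0, 0, 0, 0, 2, 0; 0, 0, 0, 0, 2, 0, 0; 0, 0, 0, 1, 0, 0, 0; 0, 0, 1, 0, 0, 0, 0; 0, 2, 0, 0, 0, 0, 0],
  !![0, 2, 0, 0, 0, 0, 0; 1, 0, 0, 0, 0, 0, 0; 0, 0, 0, 1, 0, 0, 0; 0, 0, 2, 0, 0, 0, 0; 0, 0, 0, 0, 0, 0, 0; 0, 0, 0, 0, 0, 0, 0; 0, 0, 0, 0, 0, 0, 0],
  !![0, 0, 1, 0, 0, 0, 0; 0, 0, 0, 0, 1, 0, 0; 2, 0, 0, 0, 0, 0, 0; 0, 0, 0, 0, 0, 0, 0; 0, 2, 0, 0, 0, 0, 0; 0, 0, 0, 0, 0, 0, 0; 0, 0, 0, 0, 0, 0, 0],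
  !![0, 0, 0, 1, 0, 0, 0; 0, 0, 0, 0, 0, 2, 0; 0, 0, 0, 0, 0, 0, 0; 2, 0, 0, 0, 0, 0, 0; 0, 0, 0, 0, 0, 0, 0; 0, 1, 0, 0, 0, 0, 0; 0, 0, 0, 0, 0, 0, 0],
  !![0, 0, 0, 0, 2, 0, 0; 0, 0, 0, 0, 0, 0, 0; 0, 0, 0, 0, 0, 0, 2; 0, 0, 0, 0, 0, 0, 0; 1, 0, 0, 0, 0, 0, 0; 0, 0, 0, 0, 0, 0, 0; 0, 0, 1, 0, 0, 0, 0],
  !![0, 0, 0, 0, 0, 2, 0; 0, 0, 0, 0, 0, 0, 0; 0, 0, 0, 0, 0, 0, 0; 0, 0, 0, 0, 0, 0, 1; 0, 0, 0, 0, 0, 0, 0; 1, 0, 0, 0, 0, 0, 0; 0, 0, 0, 2, 0, 0, 0],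
  !![0, 0, 0, 0, 0, 0, 1; 0, 0, 0, 0, 0, 0, 0; 0, 0, 0, 0, 0, 0, 0; 0, 0, 0, 0, 0, 0, 0; 0, 0, 0, 0, 0, 1, 0; 0, 0, 0, 0, 2, 0, 0; 2, 0, 0, 0, 0, 0, 0]]

/-- `M` preserves the product. -/
def Pres (M : MatSeven) : Prop := ∀ k, Mᵀ * brk k * M = ∑ m, M k m • brk m

/-- Images of the root elements. -/
def genSeven : Fin 12 → ZMod 3 → MatSeven
  | 0, 0 => !![1, 0, 0, 0, 0, 0, 0; 0, 1, 0, 0, 0, 0, 0; 0, 0, 1, 0, 0, 0, 0; 0, 0, 0, 1, 0, 0, 0; 0, 0, 0, 0, 1, 0, 0; 0, 0, 0, 0, 0, 1, 0; 0, 0, 0, 0, 0, 0, 1]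
  | 0, 1 => !![1, 0, 0, 0, 0, 0, 0; 0, 1, 0, 0, 0, 1, 0; 0, 0, 1, 0, 0, 0, 2; 0, 0, 0, 1, 0, 0, 0; 0, 0, 0, 0, 1, 0, 0; 0, 0, 0, 0, 0, 1, 0; 0, 0, 0, 0, 0, 0, 1]
  | 0, 2 => !![1, 0, 0, 0, 0, 0, 0; 0, 1, 0, 0, 0, 2, 0; 0, 0, 1, 0, 0, 0, 1; 0, 0, 0, 1, 0, 0, 0; 0, 0, 0, 0, 1, 0, 0; 0, 0, 0, 0, 0, 1, 0; 0, 0, 0, 0, 0, 0, 1]
  | 1, 0 => !![1, 0, 0, 0, 0, 0, 0; 0, 1, 0, 0, 0, 0, 0; 0, 0, 1, 0, 0, 0, 0; 0, 0, 0, 1, 0, 0, 0; 0, 0, 0, 0, 1, 0, 0; 0, 0, 0, 0, 0, 1, 0; 0, 0, 0, 0, 0, 0, 1]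
  | 1, 1 => !![1, 0, 0, 0, 0, 0, 0; 0, 1, 0, 0, 1, 0, 0; 0, 0, 1, 0, 0, 0, 0; 0, 0, 0, 1, 0, 0, 2; 0, 0, 0, 0, 1, 0, 0; 0, 0, 0, 0, 0, 1, 0; 0, 0, 0, 0, 0, 0, 1]
  | 1, 2 => !![1, 0, 0, 0, 0, 0, 0; 0, 1, 0, 0, 2, 0, 0; 0, 0, 1, 0, 0, 0, 0; 0, 0, 0, 1, 0, 0, 1; 0, 0, 0, 0, 1, 0, 0; 0, 0, 0, 0, 0, 1, 0; 0, 0, 0, 0, 0, 0, 1]
  | 2, 0 => !![1, 0, 0, 0, 0, 0, 0; 0, 1, 0, 0, 0, 0, 0; 0, 0, 1, 0, 0, 0, 0; 0, 0, 0, 1, 0, 0, 0; 0, 0, 0, 0, 1, 0, 0; 0, 0, 0, 0, 0, 1, 0; 0, 0, 0, 0, 0, 0, 1]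
  | 2, 1 => !![1, 0, 0, 0, 0, 0, 1; 1, 1, 0, 0, 0, 0, 2; 0, 0, 1, 0, 1, 0, 0; 0, 0, 0, 1, 0, 2, 0; 0, 0, 0, 0, 1, 0, 0; 0, 0, 0, 0, 0, 1, 0; 0, 0, 0, 0, 0, 0, 1]
  | 2, 2 => !![1, 0, 0, 0, 0, 0, 2; 2, 1, 0, 0, 0, 0, 2; 0, 0, 1, 0, 2, 0, 0; 0, 0, 0, 1, 0, 1, 0; 0, 0, 0, 0, 1, 0, 0; 0, 0, 0, 0, 0, 1, 0; 0, 0, 0, 0, 0, 0, 1]
  | 3, 0 => !![1, 0, 0, 0, 0, 0, 0; 0, 1, 0, 0, 0, 0, 0; 0, 0, 1, 0, 0, 0, 0; 0, 0, 0, 1, 0, 0, 0; 0, 0, 0, 0, 1, 0, 0; 0, 0, 0, 0, 0, 1, 0; 0, 0, 0, 0, 0, 0, 1]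
  | 3, 1 => !![1, 0, 0, 0, 0, 2, 0; 0, 1, 0, 1, 0, 0, 0; 2, 0, 1, 0, 0, 2, 0; 0, 0, 0, 1, 0, 0, 0; 0, 0, 0, 0, 1, 0, 2; 0, 0, 0, 0, 0, 1, 0; 0, 0, 0, 0, 0, 0, 1]
  | 3, 2 => !![1, 0, 0, 0, 0, 1, 0; 0, 1, 0, 2, 0, 0, 0; 1, 0, 1, 0, 0, 2, 0; 0, 0, 0, 1, 0, 0, 0; 0, 0, 0, 0, 1, 0, 1; 0, 0, 0, 0, 0, 1, 0; 0, 0, 0, 0, 0, 0, 1]
  | 4, 0 => !![1, 0, 0, 0, 0, 0, 0; 0, 1, 0, 0, 0, 0, 0; 0, 0, 1, 0, 0, 0, 0; 0, 0, 0, 1, 0, 0, 0; 0, 0, 0, 0, 1, 0, 0; 0, 0, 0, 0, 0, 1, 0; 0, 0, 0, 0, 0, 0, 1]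
  | 4, 1 => !![1, 0, 0, 0, 2, 0, 0; 0, 1, 2, 0, 0, 0, 0; 0, 0, 1, 0, 0, 0, 0; 2, 0, 0, 1, 2, 0, 0; 0, 0, 0, 0, 1, 0, 0; 0, 0, 0, 0, 0, 1, 1; 0, 0, 0, 0, 0, 0, 1]
  | 4, 2 => !![1, 0, 0, 0, 1, 0, 0; 0, 1, 1, 0, 0, 0, 0; 0, 0, 1, 0, 0, 0, 0; 1, 0, 0, 1, 2, 0, 0; 0, 0, 0, 0, 1, 0, 0; 0, 0, 0, 0, 0, 1, 2; 0, 0, 0, 0, 0, 0, 1]
  | 5, 0 => !![1, 0, 0, 0, 0, 0, 0; 0, 1, 0, 0, 0, 0, 0; 0, 0, 1, 0, 0, 0, 0; 0, 0, 0, 1, 0, 0, 0; 0, 0, 0, 0, 1, 0, 0; 0, 0, 0, 0, 0, 1, 0; 0, 0, 0, 0, 0, 0, 1]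
  | 5, 1 => !![1, 0, 0, 0, 0, 0, 0; 0, 1, 0, 0, 0, 0, 0; 0, 0, 1, 2, 0, 0, 0; 0, 0, 0, 1, 0, 0, 0; 0, 0, 0, 0, 1, 1, 0; 0, 0, 0, 0, 0, 1, 0; 0, 0, 0, 0, 0, 0, 1]
  | 5, 2 => !![1, 0, 0, 0, 0, 0, 0; 0, 1, 0, 0, 0, 0, 0; 0, 0, 1, 1, 0, 0, 0; 0, 0, 0, 1, 0, 0, 0; 0, 0, 0, 0, 1, 2, 0; 0, 0, 0, 0, 0, 1, 0; 0, 0, 0, 0, 0, 0, 1]
  | 6, 0 => !![1, 0, 0, 0, 0, 0, 0; 0, 1, 0, 0, 0, 0, 0; 0, 0, 1, 0, 0, 0, 0; 0, 0, 0, 1, 0, 0, 0; 0, 0, 0, 0, 1, 0, 0; 0, 0, 0, 0, 0, 1, 0; 0, 0, 0, 0, 0, 0, 1]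
  | 6, 1 => !![1, 0, 0, 0, 0, 0, 0; 0, 1, 0, 0, 0, 0, 0; 0, 0, 1, 0, 0, 0, 0; 0, 0, 2, 1, 0, 0, 0; 0, 0, 0, 0, 1, 0, 0; 0, 0, 0, 0, 1, 1, 0; 0, 0, 0, 0, 0, 0, 1]
  | 6, 2 => !![1, 0, 0, 0, 0, 0, 0; 0, 1, 0, 0, 0, 0, 0; 0, 0, 1, 0, 0, 0, 0; 0, 0, 1, 1, 0, 0, 0; 0, 0, 0, 0, 1, 0, 0; 0, 0, 0, 0, 2, 1, 0; 0, 0, 0, 0, 0, 0, 1]
  | 7, 0 => !![1, 0, 0, 0, 0, 0, 0; 0, 1, 0, 0, 0, 0, 0; 0, 0, 1, 0, 0, 0, 0; 0, 0, 0, 1, 0, 0, 0; 0, 0, 0, 0, 1, 0, 0; 0, 0, 0, 0, 0, 1, 0; 0, 0, 0, 0, 0, 0, 1]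
  | 7, 1 => !![1, 0, 0, 1, 0, 0, 0; 0, 1, 0, 0, 0, 0, 0; 0, 2, 1, 0, 0, 0, 0; 0, 0, 0, 1, 0, 0, 0; 1, 0, 0, 2, 1, 0, 0; 0, 0, 0, 0, 0, 1, 0; 0, 0, 0, 0, 0, 1, 1]
  | 7, 2 => !![1, 0, 0, 2, 0, 0, 0; 0, 1, 0, 0, 0, 0, 0; 0, 1, 1, 0, 0, 0, 0; 0, 0, 0, 1, 0, 0, 0; 2, 0, 0, 2, 1, 0, 0; 0, 0, 0, 0, 0, 1, 0; 0, 0, 0, 0, 0, 2, 1]
  | 8, 0 => !![1, 0, 0, 0, 0, 0, 0; 0, 1, 0, 0, 0, 0, 0; 0, 0, 1, 0, 0, 0, 0; 0, 0, 0, 1, 0, 0, 0; 0, 0, 0, 0, 1, 0, 0; 0, 0, 0, 0, 0, 1, 0; 0, 0, 0, 0, 0, 0, 1]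
  | 8, 1 => !![1, 0, 1, 0, 0, 0, 0; 0, 1, 0, 0, 0, 0, 0; 0, 0, 1, 0, 0, 0, 0; 0, 1, 0, 1, 0, 0, 0; 0, 0, 0, 0, 1, 0, 0; 1, 0, 2, 0, 0, 1, 0; 0, 0, 0, 0, 2, 0, 1]
  | 8, 2 => !![1, 0, 2, 0, 0, 0, 0; 0, 1, 0, 0, 0, 0, 0; 0, 0, 1, 0, 0, 0, 0; 0, 2, 0, 1, 0, 0, 0; 0, 0, 0, 0, 1, 0, 0; 2, 0, 2, 0, 0, 1, 0; 0, 0, 0, 0, 1, 0, 1]
  | 9, 0 => !![1, 0, 0, 0, 0, 0, 0; 0, 1, 0, 0, 0, 0, 0; 0, 0, 1, 0, 0, 0, 0; 0, 0, 0, 1, 0, 0, 0; 0, 0, 0, 0, 1, 0, 0; 0, 0, 0, 0, 0, 1, 0; 0, 0, 0, 0, 0, 0, 1]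
  | 9, 1 => !![1, 2, 0, 0, 0, 0, 0; 0, 1, 0, 0, 0, 0, 0; 0, 0, 1, 0, 0, 0, 0; 0, 0, 0, 1, 0, 0, 0; 0, 0, 1, 0, 1, 0, 0; 0, 0, 0, 2, 0, 1, 0; 2, 2, 0, 0, 0, 0, 1]
  | 9, 2 => !![1, 1, 0, 0, 0, 0, 0; 0, 1, 0, 0, 0, 0, 0; 0, 0, 1, 0, 0, 0, 0; 0, 0, 0, 1, 0, 0, 0; 0, 0, 2, 0, 1, 0, 0; 0, 0, 0, 1, 0, 1, 0; 1, 2, 0, 0, 0, 0, 1]
  | 10, 0 => !![1, 0, 0, 0, 0, 0, 0; 0, 1, 0, 0, 0, 0, 0; 0, 0, 1, 0, 0, 0, 0; 0, 0, 0, 1, 0, 0, 0; 0, 0, 0, 0, 1, 0, 0; 0, 0, 0, 0, 0, 1, 0; 0, 0, 0, 0, 0, 0, 1]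
  | 10, 1 => !![1, 0, 0, 0, 0, 0, 0; 0, 1, 0, 0, 0, 0, 0; 0, 0, 1, 0, 0, 0, 0; 0, 0, 0, 1, 0, 0, 0; 0, 1, 0, 0, 1, 0, 0; 0, 0, 0, 0, 0, 1, 0; 0, 0, 0, 2, 0, 0, 1]
  | 10, 2 => !![1, 0, 0, 0, 0, 0, 0; 0, 1, 0, 0, 0, 0, 0; 0, 0, 1, 0, 0, 0, 0; 0, 0, 0, 1, 0, 0, 0; 0, 2, 0, 0, 1, 0, 0; 0, 0, 0, 0, 0, 1, 0; 0, 0, 0, 1, 0, 0, 1]
  | 11, 0 => !![1, 0, 0, 0, 0, 0, 0; 0, 1, 0, 0, 0, 0, 0; 0, 0, 1, 0, 0, 0, 0; 0, 0, 0, 1, 0, 0, 0; 0, 0, 0, 0, 1, 0, 0; 0, 0, 0, 0, 0, 1, 0; 0, 0, 0, 0, 0, 0, 1]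
  | 11, 1 => !![1, 0, 0, 0, 0, 0, 0; 0, 1, 0, 0, 0, 0, 0; 0, 0, 1, 0, 0, 0, 0; 0, 0, 0, 1, 0, 0, 0; 0, 0, 0, 0, 1, 0, 0; 0, 1, 0, 0, 0, 1, 0; 0, 0, 2, 0, 0, 0, 1]
  | 11, 2 => !![1, 0, 0, 0, 0, 0, 0; 0, 1, 0, 0, 0, 0, 0; 0, 0, 1, 0, 0, 0, 0; 0, 0, 0, 1, 0, 0, 0; 0, 0, 0, 0, 1, 0, 0; 0, 2, 0, 0, 0, 1, 0; 0, 0, 1, 0, 0, 0, 1]

theorem pres_one : Pres 1 := by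
  intro k
  simp [Matrix.one_apply]

theorem Pres.mul {M N : MatSeven} (hM : Pres M) (hN : Pres N) : Pres (M * N) := by
  intro k
  rw [Matrix.transpose_mul, show Nᵀ * Mᵀ * brk k * (M * N) = Nᵀ * (Mᵀ * brk k * M) * N by
    simp only [Matrix.mul_assoc], hM k, Matrix.mul_sum, Matrix.sum_mul]
  simp only [Matrix.mul_smul, Matrix.smul_mul, hN _, Finset.smul_sum, smul_smul]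
  rw [Finset.sum_comm]
  refine Finset.sum_congr rfl fun m _ => ?_
  rw [Matrix.mul_apply, Finset.sum_smul]

theorem pres_root : ∀ r, Pres (genSeven r 1) := by
  unfold Pres
  decide +kernel

theorem genSeven_spec : ∀ r, genSeven r 0 = 1 ∧ genSeven r 2 = genSeven r 1 * genSeven r 1 := by
  decide +kernel

theorem pres_gen (r : Fin 12) (t : ZMod 3) : Pres (genSeven r t) := by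
  fin_cases t
  · exact (genSeven_spec r).1 ▸ pres_one
  · exact pres_root r
  · exact (genSeven_spec r).2 ▸ (pres_root r).mul (pres_root r)

/-- An element of order 13. -/
def eltThirteen : MatSeven := !![2, 0, 0, 1, 0, 0, 0; 0, 1, 1, 0, 0, 0, 0; 2, 2, 0, 2, 1, 0, 0; 2, 1, 0, 2, 1, 0, 0; 0, 0, 0, 2, 0, 1, 2; 0, 0, 0, 2, 0, 2, 1; 0, 0, 0, 0, 0, 1, 0]

/-- Its powers. -/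
def powThirteen : Fin 13 → MatSeven := ![
  !![1, 0, 0, 0, 0, 0, 0; 0, 1, 0, 0, 0, 0, 0; 0, 0, 1, 0, 0, 0, 0; 0, 0, 0, 1, 0, 0, 0; 0, 0, 0, 0, 1, 0, 0; 0, 0, 0, 0, 0, 1, 0; 0, 0, 0, 0, 0, 0, 1],
  !![2, 0, 0, 1, 0, 0, 0; 0, 1, 1, 0, 0, 0, 0; 2, 2, 0, 2, 1, 0, 0; 2, 1, 0, 2, 1, 0, 0; 0, 0, 0, 2, 0, 1, 2; 0, 0, 0, 2, 0, 2, 1; 0, 0, 0, 0, 0, 1, 0],
  !![0, 1, 0, 1, 1, 0, 0; 2, 0, 1, 2, 1, 0, 0; 2, 1, 2, 2, 2, 1, 2; 2, 0, 1, 2, 2, 1, 2; 1, 2, 0, 0, 2, 1, 1; 1, 2, 0, 2, 2, 2, 2; 0, 0, 0, 2, 0, 2, 1],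
  !![2, 2, 1, 1, 1, 1, 2; 1, 1, 0, 1, 0, 1, 2; 0, 1, 1, 1, 1, 0, 2; 1, 1, 0, 2, 0, 0, 2; 2, 2, 2, 1, 0, 2, 2; 0, 1, 2, 1, 2, 2, 0; 1, 2, 0, 2, 2, 2, 2],
  !![2, 2, 2, 1, 2, 2, 0; 1, 2, 1, 2, 1, 1, 1; 1, 1, 1, 0, 2, 0, 2; 0, 0, 1, 2, 2, 2, 0; 1, 1, 2, 0, 0, 0, 2; 0, 0, 1, 2, 0, 0, 0; 0, 1, 2, 1, 2, 2, 0],
  !![1, 1, 2, 1, 0, 0, 0; 2, 0, 2, 2, 0, 1, 0; 1, 0, 1, 1, 1, 1, 1; 0, 1, 0, 2, 0, 0, 0; 0, 2, 1, 2, 2, 2, 0; 0, 1, 0, 0, 0, 0, 0; 0, 0, 1, 2, 0, 0, 0],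
  !![2, 0, 1, 1, 0, 0, 0; 0, 0, 0, 0, 1, 2, 1; 0, 0, 0, 0, 2, 1, 0; 1, 0, 1, 1, 2, 0, 0; 0, 0, 2, 2, 0, 0, 0; 0, 1, 1, 0, 0, 0, 0; 0, 1, 0, 0, 0, 0, 0],
  !![2, 0, 0, 0, 2, 0, 0; 0, 0, 0, 0, 0, 0, 1; 0, 0, 0, 0, 0, 1, 2; 0, 0, 0, 0, 2, 2, 1; 2, 0, 0, 2, 1, 0, 0; 2, 0, 1, 2, 1, 0, 0; 0, 1, 1, 0, 0, 0, 0],
  !![1, 0, 0, 0, 0, 2, 1; 0, 0, 0, 0, 0, 1, 0; 0, 0, 0, 2, 0, 1, 1; 0, 0, 0, 2, 0, 1, 0; 2, 2, 0, 2, 2, 1, 2; 1, 1, 0, 1, 0, 1, 2; 2, 0, 1, 2, 1, 0, 0],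
  !![2, 0, 0, 2, 0, 2, 2; 0, 0, 0, 2, 0, 2, 1; 1, 2, 0, 0, 2, 0, 1; 1, 2, 0, 0, 2, 2, 1; 2, 1, 2, 0, 2, 0, 2; 1, 2, 1, 2, 1, 1, 1; 1, 1, 0, 1, 0, 1, 2],
  !![2, 2, 0, 1, 2, 0, 2; 1, 2, 0, 2, 2, 2, 2; 2, 2, 2, 2, 0, 0, 1; 2, 2, 2, 0, 0, 1, 0; 2, 2, 1, 1, 2, 1, 1; 2, 0, 2, 2, 0, 1, 0; 1, 2, 1, 2, 1, 1, 1],
  !![0, 0, 2, 2, 1, 1, 1; 0, 1, 2, 1, 2, 2, 0; 0, 2, 2, 1, 1, 1, 0; 2, 0, 2, 2, 2, 2, 1; 2, 2, 2, 0, 2, 2, 2; 0, 0, 0, 0, 1, 2, 1; 2, 0, 2, 2, 0, 1, 0],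
  !![2, 0, 0, 0, 1, 1, 0; 0, 0, 1, 2, 0, 0, 0; 0, 1, 2, 1, 0, 0, 0; 0, 0, 0, 0, 1, 1, 0; 2, 0, 2, 2, 2, 2, 0; 0, 0, 0, 0, 0, 0, 1; 0, 0, 0, 0, 1, 2, 1]]

theorem powThirteen_zero : powThirteen 0 = 1 := by decide +kernel

theorem powThirteen_succ : ∀ l : Fin 13, powThirteen (l + 1) = eltThirteen * powThirteen l := by decide +kernel

/-- Inverse of its Krylov matrix at the first basis vector. -/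
def kInvThirteen : MatSeven := !![1, 2, 1, 1, 1, 0, 2; 0, 2, 2, 0, 2, 2, 0; 0, 0, 0, 0, 0, 1, 0; 0, 0, 0, 0, 0, 0, 1; 0, 0, 0, 0, 1, 2, 1; 0, 2, 0, 0, 1, 1, 2; 0, 2, 2, 1, 2, 0, 2]

/-- Basis of its commutant. -/
def basisThirteen : Fin 7 → MatSeven := ![
  !![1, 0, 0, 0, 0, 0, 0; 0, 1, 0, 0, 0, 0, 0; 0, 0, 1, 0, 0, 0, 0; 0, 0, 0, 1, 0, 0, 0; 0, 0, 0, 0, 1, 0, 0; 0, 0, 0, 0, 0, 1, 0; 0, 0, 0, 0, 0, 0, 1],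
  !![0, 2, 0, 0, 0, 0, 0; 1, 1, 0, 1, 2, 0, 2; 0, 1, 1, 0, 2, 1, 2; 0, 1, 2, 0, 0, 0, 0; 0, 1, 0, 0, 0, 0, 1; 0, 1, 2, 1, 0, 0, 2; 0, 2, 2, 1, 0, 2, 2],
  !![0, 0, 2, 1, 0, 0, 0; 0, 0, 2, 0, 2, 1, 2; 1, 1, 1, 1, 0, 2, 0; 0, 2, 2, 1, 0, 0, 0; 0, 0, 1, 2, 1, 2, 1; 0, 2, 2, 1, 0, 2, 2; 0, 2, 0, 0, 0, 2, 1],
  !![0, 0, 1, 1, 0, 0, 0; 0, 1, 0, 0, 1, 2, 1; 0, 0, 1, 0, 2, 1, 0; 1, 0, 1, 2, 2, 0, 0; 0, 0, 2, 2, 1, 0, 0; 0, 1, 1, 0, 0, 1, 0; 0, 1, 0, 0, 0, 0, 1],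
  !![0, 0, 0, 0, 2, 2, 0; 0, 2, 2, 1, 0, 0, 0; 0, 2, 0, 2, 0, 0, 0; 0, 0, 0, 2, 2, 2, 0; 1, 0, 1, 1, 0, 1, 0; 0, 0, 0, 0, 0, 2, 2; 0, 0, 0, 0, 2, 1, 1],
  !![0, 0, 0, 0, 2, 1, 0; 0, 0, 1, 2, 0, 0, 2; 0, 1, 2, 1, 0, 2, 1; 0, 0, 0, 0, 2, 2, 2; 0, 0, 2, 0, 1, 2, 0; 1, 0, 2, 1, 2, 0, 1; 0, 2, 2, 0, 1, 2, 1],
  !![0, 0, 0, 0, 0, 0, 2; 0, 2, 2, 1, 0, 2, 2; 0, 2, 0, 0, 0, 1, 0; 0, 0, 0, 0, 0, 2, 2; 0, 1, 1, 0, 0, 0, 1; 0, 2, 2, 0, 2, 1, 0; 1, 2, 1, 1, 1, 1, 1]]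

/-- The commuting matrix with given first column. -/
def candThirteen (w : Fin 7 → ZMod 3) : MatSeven :=
  Matrix.of fun i j => ∑ k, w k * basisThirteen k i j

/-- A few of the equations of `Pres`. -/
def EqsThirteen (M : MatSeven) : Prop :=
  1 * (M 1 1 * M 6 6) + 2 * (M 2 1 * M 5 6) + 2 * (M 3 1 * M 4 6) + 1 * (M 4 1 * M 3 6) + 1 * (M 5 1 * M 2 6) + 2 * (M 6 1 * M 1 6) = 1 * M 0 0 ∧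
  1 * (M 0 2 * M 3 3) + 2 * (M 1 2 * M 5 3) + 2 * (M 3 2 * M 0 3) + 1 * (M 5 2 * M 1 3) = 1 * M 3 1 ∧
  1 * (M 0 3 * M 6 4) + 1 * (M 4 3 * M 5 4) + 2 * (M 5 3 * M 4 4) + 2 * (M 6 3 * M 0 4) = 2 * M 6 0 ∧
  1 * (M 0 0 * M 3 3) + 2 * (M 1 0 * M 5 3) + 2 * (M 3 0 * M 0 3) + 1 * (M 5 0 * M 1 3) = 1 * M 3 3 ∧
  1 * (M 0 0 * M 2 5) + 1 * (M 1 0 * M 4 5) + 2 * (M 2 0 * M 0 5) + 2 * (M 4 0 * M 1 5) = 2 * M 2 5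

/-- The same equations in the parameters. -/
def LinThirteen (a b c d e f g : ZMod 3) : Prop :=
  1 * ((a + b + d + 2 * e + 2 * g) * (a + 2 * b + c + d + e + f + g)) + 2 * ((b + c + 2 * e + f + 2 * g) * (2 * b + 2 * c + 2 * e + f)) + 2 * ((b + 2 * c) * (b + c + g)) + 1 * ((b + g) * (2 * f + 2 * g)) + 1 * ((b + 2 * c + d + 2 * g) * (2 * b + f)) + 2 * ((2 * b + 2 * c + d + 2 * f + 2 * g) * (2 * b + 2 * c + d + 2 * f + 2 * g)) = 1 * (a) ∧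
  1 * ((2 * c + d) * (a + c + 2 * d + 2 * e)) + 2 * ((2 * c + 2 * e + f + 2 * g) * (b + c + f)) + 2 * ((2 * b + 2 * c + d) * (c + d)) + 1 * ((2 * b + 2 * c + d + 2 * f + 2 * g) * (b + e + 2 * f + g)) = 1 * (b + 2 * c) ∧
  1 * ((c + d) * (2 * e + f + g)) + 1 * ((2 * c + 2 * d + e) * (2 * f + 2 * g)) + 2 * ((b + c + f) * (a + c + d + f)) + 2 * ((b + g) * (2 * e + 2 * f)) = 2 * (g) ∧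
  1 * ((a) * (a + c + 2 * d + 2 * e)) + 2 * ((b) * (b + c + f)) + 2 * ((d) * (c + d)) + 1 * ((f) * (b + e + 2 * f + g)) = 1 * (a + c + 2 * d + 2 * e) ∧
  1 * ((a) * (b + 2 * c + d + 2 * f + g)) + 1 * ((b) * (2 * c + e + 2 * f)) + 2 * ((c) * (2 * e + f)) + 2 * ((e) * (c + 2 * d + 2 * g)) = 2 * (b + 2 * c + d + 2 * f + g)

instance (a b c d e f g : ZMod 3) : Decidable (LinThirteen a b c d e f g) := by unfold LinThirteen; infer_instance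

instance (M : MatSeven) : Decidable (EqsThirteen M) := by unfold EqsThirteen; infer_instance

/-- The columns of the powers. -/
def goodThirteen : List (Fin 7 → ZMod 3) := [
  ![0, 0, 0, 0, 0, 0, 0],
  ![0, 0, 0, 2, 2, 0, 2],
  ![0, 2, 2, 2, 1, 1, 0],
  ![1, 0, 0, 0, 0, 0, 0],
  ![1, 0, 0, 0, 2, 1, 2],
  ![1, 2, 1, 0, 0, 0, 0],
  ![2, 0, 0, 0, 2, 0, 0],
  ![2, 0, 0, 0, 2, 2, 0],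
  ![2, 0, 0, 1, 0, 0, 0],
  ![2, 0, 1, 1, 2, 1, 1],
  ![2, 0, 2, 2, 0, 0, 0],
  ![2, 1, 0, 1, 2, 0, 1],
  ![2, 1, 1, 0, 1, 0, 0],
  ![2, 1, 2, 2, 2, 2, 1]]

theorem kryThirteen :
    (Matrix.of fun (i j : Fin 7) => powThirteen (Fin.castLE (by decide) j) i 0) * kInvThirteen = 1 := by
  decide +kernel

theorem basisThirteen_eq : ∀ k : Fin 7, basisThirteen k = Matrix.of fun i j =>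
    ∑ l : Fin 7, powThirteen (Fin.castLE (by decide) l) i k * kInvThirteen l j := by
  decide +kernel

theorem lin_mem_goodThirteen : ∀ a b c d e f g : ZMod 3,
    LinThirteen a b c d e f g → ![a, b, c, d, e, f, g] ∈ goodThirteen := by
  decide +kernel

theorem mem_goodThirteen (a b c d e f g : ZMod 3)
    (h : EqsThirteen (candThirteen ![a, b, c, d, e, f, g])) : ![a, b, c, d, e, f, g] ∈ goodThirteen := by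
  refine lin_mem_goodThirteen a b c d e f g ?_
  simp [EqsThirteen, candThirteen, basisThirteen, Fin.sum_univ_seven] at h
  simp [LinThirteen]
  ring_nf at h ⊢
  exact h

theorem goodThirteen_spec : ∀ w ∈ goodThirteen, candThirteen w = 0 ∨ ∃ m, candThirteen w = powThirteen m := by
  decide +kernel

theorem eltThirteen_ne : eltThirteen ≠ 1 := by decide +kernel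

/-- An element of order 7. -/
def eltSeven : MatSeven := !![2, 0, 0, 1, 0, 0, 0; 0, 1, 1, 0, 0, 0, 0; 1, 2, 0, 1, 2, 0, 0; 0, 1, 0, 0, 0, 0, 0; 0, 0, 0, 2, 0, 2, 1; 0, 0, 0, 2, 0, 0, 0; 0, 0, 0, 0, 0, 1, 0]

/-- Its powers. -/
def powSeven : Fin 7 → MatSeven := ![
  !![1, 0, 0, 0, 0, 0, 0; 0, 1, 0, 0, 0, 0, 0; 0, 0, 1, 0, 0, 0, 0; 0, 0, 0, 1, 0, 0, 0; 0, 0, 0, 0, 1, 0, 0; 0, 0, 0, 0, 0, 1, 0; 0, 0, 0, 0, 0, 0, 1],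
  !![2, 0, 0, 1, 0, 0, 0; 0, 1, 1, 0, 0, 0, 0; 1, 2, 0, 1, 2, 0, 0; 0, 1, 0, 0, 0, 0, 0; 0, 0, 0, 2, 0, 2, 1; 0, 0, 0, 2, 0, 0, 0; 0, 0, 0, 0, 0, 1, 0],
  !![1, 1, 0, 2, 0, 0, 0; 1, 0, 1, 1, 2, 0, 0; 2, 0, 2, 2, 0, 1, 2; 0, 1, 1, 0, 0, 0, 0; 0, 2, 0, 1, 0, 1, 0; 0, 2, 0, 0, 0, 0, 0; 0, 0, 0, 2, 0, 0, 0],
  !![2, 0, 1, 1, 0, 0, 0; 0, 0, 0, 0, 2, 1, 2; 0, 0, 0, 0, 1, 2, 0; 1, 0, 1, 1, 2, 0, 0; 0, 0, 2, 2, 0, 0, 0; 0, 2, 2, 0, 0, 0, 0; 0, 2, 0, 0, 0, 0, 0],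
  !![2, 0, 0, 0, 2, 0, 0; 0, 0, 0, 0, 0, 0, 2; 0, 0, 0, 0, 0, 2, 1; 0, 0, 0, 0, 2, 1, 2; 2, 0, 0, 2, 1, 0, 0; 2, 0, 2, 2, 1, 0, 0; 0, 2, 2, 0, 0, 0, 0],
  !![1, 0, 0, 0, 0, 1, 2; 0, 0, 0, 0, 0, 2, 0; 0, 0, 0, 1, 0, 1, 0; 0, 0, 0, 0, 0, 0, 2; 1, 2, 0, 1, 0, 2, 1; 0, 0, 0, 0, 1, 2, 1; 2, 0, 2, 2, 1, 0, 0],
  !![2, 0, 0, 0, 0, 2, 0; 0, 0, 0, 1, 0, 0, 0; 0, 1, 0, 2, 0, 0, 0; 0, 0, 0, 0, 0, 2, 0; 2, 0, 2, 2, 0, 1, 0; 0, 0, 0, 0, 0, 0, 1; 0, 0, 0, 0, 1, 2, 1]]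

theorem powSeven_zero : powSeven 0 = 1 := by decide +kernel

theorem powSeven_succ : ∀ l : Fin 7, powSeven (l + 1) = eltSeven * powSeven l := by decide +kernel

/-- Inverse of its Krylov matrix at the first basis vector. -/
def kInvSeven : MatSeven := !![1, 0, 1, 1, 2, 0, 0; 0, 1, 1, 0, 0, 0, 0; 0, 1, 0, 0, 0, 0, 0; 0, 0, 0, 1, 0, 0, 0; 0, 0, 0, 0, 0, 2, 0; 0, 0, 0, 0, 0, 0, 2; 0, 0, 0, 0, 2, 1, 2]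

/-- Basis of its commutant. -/
def basisSeven : Fin 7 → MatSeven := ![
  !![1, 0, 0, 0, 0, 0, 0; 0, 1, 0, 0, 0, 0, 0; 0, 0, 1, 0, 0, 0, 0; 0, 0, 0, 1, 0, 0, 0; 0, 0, 0, 0, 1, 0, 0; 0, 0, 0, 0, 0, 1, 0; 0, 0, 0, 0, 0, 0, 1],
  !![0, 1, 0, 0, 0, 0, 0; 1, 1, 2, 1, 2, 0, 0; 0, 2, 2, 0, 2, 1, 2; 0, 2, 1, 0, 0, 0, 0; 0, 2, 0, 0, 0, 0, 1; 0, 2, 0, 2, 0, 0, 0; 0, 0, 0, 2, 0, 1, 0],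
  !![0, 0, 0, 1, 0, 0, 0; 0, 2, 1, 0, 0, 0, 0; 1, 2, 1, 1, 2, 0, 0; 0, 1, 0, 1, 0, 0, 0; 0, 0, 0, 2, 1, 2, 1; 0, 0, 0, 2, 0, 1, 0; 0, 0, 0, 0, 0, 1, 1],
  !![0, 0, 1, 1, 0, 0, 0; 0, 1, 0, 0, 2, 1, 2; 0, 0, 1, 0, 1, 2, 0; 1, 0, 1, 2, 2, 0, 0; 0, 0, 2, 2, 1, 0, 0; 0, 2, 2, 0, 0, 1, 0; 0, 2, 0, 0, 0, 0, 1],
  !![0, 0, 0, 0, 0, 1, 0; 0, 2, 0, 2, 0, 0, 0; 0, 2, 2, 1, 0, 0, 0; 0, 0, 0, 2, 0, 1, 0; 1, 0, 1, 1, 2, 2, 0; 0, 0, 0, 0, 0, 2, 2; 0, 0, 0, 0, 2, 1, 1],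
  !![0, 0, 0, 0, 1, 2, 0; 0, 0, 0, 1, 0, 0, 1; 0, 1, 0, 2, 0, 1, 2; 0, 0, 0, 0, 1, 1, 1; 0, 0, 2, 0, 2, 1, 0; 1, 0, 1, 1, 2, 0, 1; 0, 1, 1, 0, 1, 2, 1],
  !![0, 0, 0, 0, 0, 0, 1; 0, 0, 0, 2, 0, 1, 0; 0, 2, 0, 0, 0, 2, 0; 0, 0, 0, 0, 0, 1, 1; 0, 1, 1, 0, 0, 0, 2; 0, 0, 0, 0, 2, 1, 1; 1, 0, 1, 1, 1, 1, 2]]

/-- The commuting matrix with given first column. -/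
def candSeven (w : Fin 7 → ZMod 3) : MatSeven :=
  Matrix.of fun i j => ∑ k, w k * basisSeven k i j

/-- A few of the equations of `Pres`. -/
def EqsSeven (M : MatSeven) : Prop :=
  2 * (M 0 1 * M 4 5) + 2 * (M 2 1 * M 6 5) + 1 * (M 4 1 * M 0 5) + 1 * (M 6 1 * M 2 5) = 2 * M 4 3 ∧
  1 * (M 0 0 * M 6 1) + 1 * (M 4 0 * M 5 1) + 2 * (M 5 0 * M 4 1) + 2 * (M 6 0 * M 0 1) = 2 * M 6 1 ∧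
  1 * (M 0 2 * M 2 5) + 1 * (M 1 2 * M 4 5) + 2 * (M 2 2 * M 0 5) + 2 * (M 4 2 * M 1 5) = 2 * M 2 0 ∧
  1 * (M 0 3 * M 6 6) + 1 * (M 4 3 * M 5 6) + 2 * (M 5 3 * M 4 6) + 2 * (M 6 3 * M 0 6) = 1 * M 6 5 ∧
  1 * (M 0 0 * M 6 2) + 1 * (M 4 0 * M 5 2) + 2 * (M 5 0 * M 4 2) + 2 * (M 6 0 * M 0 2) = 1 * M 6 2 ∧
  2 * (M 0 0 * M 1 1) + 1 * (M 1 0 * M 0 1) + 1 * (M 2 0 * M 3 1) + 2 * (M 3 0 * M 2 1) = 2 * M 1 1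

/-- The same equations in the parameters. -/
def LinSeven (a b c d e f g : ZMod 3) : Prop :=
  2 * ((b) * (2 * c + 2 * e + f)) + 2 * ((2 * b + 2 * c + 2 * e + f + 2 * g) * (b + c + e + 2 * f + g)) + 1 * ((2 * b + g) * (e + 2 * f)) + 1 * ((2 * d + f) * (b + 2 * d + f + 2 * g)) = 2 * (2 * c + 2 * d + e) ∧
  1 * ((a) * (2 * d + f)) + 1 * ((e) * (2 * b + 2 * d)) + 2 * ((f) * (2 * b + g)) + 2 * ((g) * (b)) = 2 * (2 * d + f) ∧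
  1 * ((d) * (b + 2 * d + f + 2 * g)) + 1 * ((2 * b + c) * (2 * c + 2 * e + f)) + 2 * ((a + 2 * b + c + d + 2 * e) * (e + 2 * f)) + 2 * ((2 * d + e + 2 * f + g) * (d + g)) = 2 * (c) ∧
  1 * ((c + d) * (a + c + d + e + f + 2 * g)) + 1 * ((2 * c + 2 * d + e) * (2 * e + f + g)) + 2 * ((2 * b + 2 * c + f) * (b + c + 2 * g)) + 2 * ((2 * b + g) * (g)) = 1 * (b + c + e + 2 * f + g) ∧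
  1 * ((a) * (f + g)) + 1 * ((e) * (2 * d + f)) + 2 * ((f) * (2 * d + e + 2 * f + g)) + 2 * ((g) * (d)) = 1 * (f + g) ∧
  2 * ((a) * (a + b + 2 * c + d + 2 * e)) + 1 * ((b) * (b)) + 1 * ((c) * (2 * b + c)) + 2 * ((d) * (2 * b + 2 * c + 2 * e + f + 2 * g)) = 2 * (a + b + 2 * c + d + 2 * e)

instance (a b c d e f g : ZMod 3) : Decidable (LinSeven a b c d e f g) := by unfold LinSeven; infer_instance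

instance (M : MatSeven) : Decidable (EqsSeven M) := by unfold EqsSeven; infer_instance

/-- The columns of the powers. -/
def goodSeven : List (Fin 7 → ZMod 3) := [
  ![0, 0, 0, 0, 0, 0, 0],
  ![1, 0, 0, 0, 0, 0, 0],
  ![1, 0, 0, 0, 1, 0, 2],
  ![1, 1, 2, 0, 0, 0, 0],
  ![2, 0, 0, 0, 2, 0, 0],
  ![2, 0, 0, 0, 2, 2, 0],
  ![2, 0, 0, 1, 0, 0, 0],
  ![2, 0, 1, 0, 0, 0, 0]]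

theorem krySeven :
    (Matrix.of fun (i j : Fin 7) => powSeven (Fin.castLE (by decide) j) i 0) * kInvSeven = 1 := by
  decide +kernel

theorem basisSeven_eq : ∀ k : Fin 7, basisSeven k = Matrix.of fun i j =>
    ∑ l : Fin 7, powSeven (Fin.castLE (by decide) l) i k * kInvSeven l j := by
  decide +kernel

theorem lin_mem_goodSeven : ∀ a b c d e f g : ZMod 3,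
    LinSeven a b c d e f g → ![a, b, c, d, e, f, g] ∈ goodSeven := by
  decide +kernel

theorem mem_goodSeven (a b c d e f g : ZMod 3)
    (h : EqsSeven (candSeven ![a, b, c, d, e, f, g])) : ![a, b, c, d, e, f, g] ∈ goodSeven := by
  refine lin_mem_goodSeven a b c d e f g ?_
  simp [EqsSeven, candSeven, basisSeven, Fin.sum_univ_seven] at h
  simp [LinSeven]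
  ring_nf at h ⊢
  exact h

theorem goodSeven_spec : ∀ w ∈ goodSeven, candSeven w = 0 ∨ ∃ m, candSeven w = powSeven m := by
  decide +kernel

theorem eltSeven_ne : eltSeven ≠ 1 := by decide +kernel

/-- An element of order six. -/
def eltSix : MatSeven := !![1, 0, 0, 0, 0, 0, 0; 0, 1, 0, 0, 0, 0, 0; 0, 0, 1, 2, 0, 0, 0; 0, 0, 1, 0, 0, 0, 0; 0, 0, 0, 0, 1, 1, 0; 0, 0, 0, 0, 2, 0, 0; 0, 0, 0, 0, 0, 0, 1]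

theorem six_spec : ∃ A B : MatSeven, eltSix * eltSix = A ∧ A * eltSix = B ∧ B * B = 1 ∧ A ≠ 1 ∧ B ≠ 1 :=
  ⟨!![1, 0, 0, 0, 0, 0, 0; 0, 1, 0, 0, 0, 0, 0; 0, 0, 0, 2, 0, 0, 0; 0, 0, 1, 2, 0, 0, 0; 0, 0, 0, 0, 0, 1, 0; 0, 0, 0, 0, 2, 2, 0; 0, 0, 0, 0, 0, 0, 1], !![1, 0, 0, 0, 0, 0, 0; 0, 1, 0, 0, 0, 0, 0; 0, 0, 2, 0, 0, 0, 0; 0, 0, 0, 2, 0, 0, 0; 0, 0, 0, 0, 2, 0, 0; 0, 0, 0, 0, 0, 2, 0; 0, 0, 0, 0, 0, 0, 1], by decide +kernel⟩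

end CfsgLib.GTwoThree
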